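import Cfsg.Agent.Base.Spectrum.TwoSymFive
import Mathlib.GroupTheory.SemidirectProduct
import Mathlib.GroupTheory.Solvable
import Mathlib.GroupTheory.Perm.Cycle.Type
import Mathlib.LinearAlgebra.Matrix.ToLin
import Mathlib.Data.Fintype.Pi

/-! A group `(7⁴ × W) ⋊ 2·S₅` with the spectrum of `A₁₀`. -/

set_option autoImplicit false
set_option maxRecDepth 20000

namespace CfsgLib.Spectrum.A10

open CfsgLib.Spectrum.TwoSymFive

local notation "M4" => Matrix (Fin 4) (Fin 4) (ZMod 7)

theorem genA_sq : genA * genA = -1 := by decide +kernel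

/-- The central involution. -/
noncomputable def z : G0 := ⟨uA, Subgroup.subset_closure (Set.mem_insert _ _)⟩ ^ 2

/-- The underlying matrix. -/
noncomputable def toMat : G0 →* M4 := (Units.coeHom M4).comp G0.subtype

theorem toMat_injective : Function.Injective toMat :=
  Units.val_injective.comp Subtype.val_injective

theorem toMat_z : toMat z = -1 := by
  rw [z, map_pow, pow_two]; exact genA_sq

theorem z_comm (g : G0) : z * g = g * z :=
  toMat_injective (by rw [map_mul, map_mul, toMat_z, neg_one_mul, mul_neg_one])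

theorem z_sq : z * z = 1 :=
  toMat_injective (by rw [map_mul, toMat_z, map_one, neg_mul_neg, one_mul])

theorem z_ne_one : z ≠ 1 := fun h => by
  have := congrArg toMat h
  rw [toMat_z, map_one] at this
  exact absurd this (by decide +kernel)

/-- Signed functions. -/
noncomputable def W : AddSubgroup (G0 → ZMod 3) where
  carrier := {f | ∀ g, f (z * g) = -f g}
  add_mem' {a b} ha hb g := by simp only [Pi.add_apply, ha g, hb g, neg_add]
  zero_mem' g := by simp
  neg_mem' {a} ha g := by simp only [Pi.neg_apply, ha g]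

/-- Translation on signed functions. -/
noncomputable def shift (g : G0) (f : W) : W :=
  ⟨fun h => (f : G0 → ZMod 3) (g⁻¹ * h), fun h => by
    show (f : G0 → ZMod 3) (g⁻¹ * (z * h)) = -(f : G0 → ZMod 3) (g⁻¹ * h)
    rw [← mul_assoc, ← z_comm, mul_assoc]; exact f.2 _⟩

theorem shift_apply (g : G0) (f : W) (h : G0) :
    ((shift g f : W) : G0 → ZMod 3) h = (f : G0 → ZMod 3) (g⁻¹ * h) := rfl

theorem shift_one (f : W) : shift 1 f = f := by
  apply Subtype.ext; funext h; rw [shift_apply, inv_one, one_mul]

theorem shift_mul (g k : G0) (f : W) : shift (g * k) f = shift g (shift k f) := by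
  apply Subtype.ext; funext h
  rw [shift_apply, shift_apply, shift_apply, mul_inv_rev, mul_assoc]

theorem shift_add (g : G0) (f f' : W) : shift g (f + f') = shift g f + shift g f' := rfl

/-- The abelian normal subgroup. -/
abbrev N := Multiplicative ((Fin 4 → ZMod 7) × W)

/-- The action. -/
noncomputable def actEquiv (g : G0) : ((Fin 4 → ZMod 7) × W) ≃+ ((Fin 4 → ZMod 7) × W) where
  toFun x := ((toMat g).mulVec x.1, shift g x.2)
  invFun x := ((toMat g⁻¹).mulVec x.1, shift g⁻¹ x.2)
  left_inv x := by
    apply Prod.ext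
    · simp only [Matrix.mulVec_mulVec, ← map_mul, inv_mul_cancel, map_one, Matrix.one_mulVec]
    · simp only [← shift_mul, inv_mul_cancel, shift_one]
  right_inv x := by
    apply Prod.ext
    · simp only [Matrix.mulVec_mulVec, ← map_mul, mul_inv_cancel, map_one, Matrix.one_mulVec]
    · simp only [← shift_mul, mul_inv_cancel, shift_one]
  map_add' x y := by
    apply Prod.ext
    · exact Matrix.mulVec_add (toMat g) x.1 y.1
    · exact shift_add _ _ _

/-- The action as a homomorphism. -/
noncomputable def phi : G0 →* MulAut N where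
  toFun g := AddEquiv.toMultiplicative (actEquiv g)
  map_one' := by
    apply MulEquiv.ext; intro x
    show Multiplicative.ofAdd (actEquiv 1 x.toAdd) = x
    simp [actEquiv, shift_one]
  map_mul' g k := by
    apply MulEquiv.ext; intro x
    show Multiplicative.ofAdd (actEquiv (g * k) x.toAdd) =
      Multiplicative.ofAdd (actEquiv g (actEquiv k x.toAdd))
    simp [actEquiv, shift_mul, Matrix.mulVec_mulVec]

theorem phi_apply (g : G0) (v : Fin 4 → ZMod 7) (w : W) :
    phi g (Multiplicative.ofAdd (v, w)) = Multiplicative.ofAdd ((toMat g).mulVec v, shift g w) := rfl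

/-- The witness group. -/
abbrev H := N ⋊[phi] G0

instance : Finite H := Finite.of_equiv _ SemidirectProduct.equivProd.symm

theorem phi_pow_fix {g : G0} {n : N} (h : phi g n = n) (k : ℕ) : phi (g ^ k) n = n := by
  induction k with
  | zero => simp
  | succ k ih => rw [pow_succ, map_mul, MulAut.mul_apply, h, ih]

/-- A power landing in `N` is fixed by the element. -/
theorem pow_eq_inl (x : H) {m : ℕ} (hm : x.right ^ m = 1) :
    ∃ n : N, x ^ m = SemidirectProduct.inl n ∧ phi x.right n = n := by
  refine ⟨(x ^ m).left, ?_, ?_⟩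
  · apply SemidirectProduct.ext
    · simp
    · have h : SemidirectProduct.rightHom (x ^ m) = x.right ^ m := by rw [map_pow]; rfl
      rw [SemidirectProduct.right_inl]
      exact h.trans hm
  · have hr : (x ^ m).right = 1 := by
      have h : SemidirectProduct.rightHom (x ^ m) = x.right ^ m := by rw [map_pow]; rfl
      exact h.trans hm
    have h := congrArg SemidirectProduct.left (Commute.self_pow x m).eq
    rw [SemidirectProduct.mul_left, SemidirectProduct.mul_left, hr, map_one, MulAut.one_apply,
      mul_comm] at h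
    exact mul_right_cancel h

theorem z3_three : ∀ a : ZMod 3, 3 • a = 0 := by decide

theorem z3_twentyone : ∀ a : ZMod 3, 21 • a = 0 := by decide

theorem z7_twentyone : ∀ a : ZMod 7, 21 • a = 0 := by decide

theorem z7_neg : ∀ a : ZMod 7, -a = a → a = 0 := by decide

theorem z3_neg : ∀ a : ZMod 3, a = -a → a = 0 := by decide

theorem z7_small : ∀ a : ZMod 7, (3 • a = 0 → a = 0) ∧ (5 • a = 0 → a = 0) := by decide

theorem sq_sq (M : M4) : M ^ 4 = M * M * (M * M) := by simp [pow_succ, mul_assoc]

theorem sq_cube (M : M4) : M ^ 6 = M * M * (M * M) * (M * M) := by simp [pow_succ, mul_assoc]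

/-- The cube of an element. -/
theorem cube_left (n : N) (g : G0) :
    ((⟨n, g⟩ : H) ^ 3).left = n * phi g n * phi (g * g) n := by
  rw [pow_succ, pow_two, SemidirectProduct.mul_left, SemidirectProduct.mul_left,
    SemidirectProduct.mul_right]

theorem pow_three (n : N) (hv : n.toAdd.1 = 0) : n ^ 3 = 1 := by
  apply Multiplicative.toAdd.injective
  rw [toAdd_pow, toAdd_one]
  apply Prod.ext
  · rw [Prod.smul_fst, hv, smul_zero, Prod.fst_zero]
  · apply Subtype.ext; funext h
    show 3 • (n.toAdd.2 : G0 → ZMod 3) h = 0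
    exact z3_three _

theorem pow_twentyone (n : N) : n ^ 21 = 1 := by
  apply Multiplicative.toAdd.injective
  rw [toAdd_pow, toAdd_one]
  apply Prod.ext
  · funext i
    show 21 • n.toAdd.1 i = 0
    exact z7_twentyone _
  · apply Subtype.ext; funext h
    show 21 • (n.toAdd.2 : G0 → ZMod 3) h = 0
    exact z3_twentyone _

/-- The spectrum of `A₁₀`. -/
def spec : Finset ℕ := {1, 2, 3, 4, 5, 6, 7, 8, 9, 10, 12, 15, 21}

theorem dvd_spec : ∀ m ∈ ({2, 4, 6, 8, 10, 12, 9, 15, 21} : Finset ℕ), ∀ d < 22, d ∣ m → d ∈ spec := by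
  decide

theorem mem_spec {m : ℕ} (x : H) (hm : m ∈ ({2, 4, 6, 8, 10, 12, 9, 15, 21} : Finset ℕ))
    (h : x ^ m = 1) : orderOf x ∈ spec := by
  have hd := orderOf_dvd_of_pow_eq_one h
  have hm' : 0 < m ∧ m < 22 := by
    revert hm; revert m; intro m _ _ hm
    simp only [Finset.mem_insert, Finset.mem_singleton] at hm
    omega
  exact dvd_spec m hm _ (lt_of_le_of_lt (Nat.le_of_dvd hm'.1 hd) hm'.2) hd

theorem orderOf_mem (x : H) : orderOf x ∈ spec := by
  have hker : ∀ {g : G0}, ∀ n : N, phi g n = n → ∀ v, v = n.toAdd.1 → (toMat g).mulVec v = v := by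
    intro g n h v hv
    subst hv
    exact congrArg (fun y : N => y.toAdd.1) h
  rcases kind x.right with h1 | ⟨k, hk1, hk6, hk⟩ | ⟨p, hp, hsum⟩
  · refine mem_spec (m := 21) x (by decide) ?_
    have hx : x = SemidirectProduct.inl x.left := by
      apply SemidirectProduct.ext <;> simp [h1]
    rw [hx, ← map_pow, pow_twentyone, map_one]
  · have hz : x.right ^ k = z := toMat_injective (by rw [map_pow, toMat_z]; exact hk)
    obtain ⟨n, hn, hfix⟩ := pow_eq_inl x (m := 2 * k) (by rw [mul_comm, pow_mul, hz, pow_two, z_sq])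
    have hzfix := phi_pow_fix hfix k
    rw [hz] at hzfix
    have hn1 : n = 1 := by
      obtain ⟨v, w⟩ := n
      rw [show phi z (v, w) = phi z (Multiplicative.ofAdd (v, w)) from rfl, phi_apply] at hzfix
      have h' := congrArg Multiplicative.toAdd hzfix
      have hv : (toMat z).mulVec v = v := congrArg Prod.fst h'
      have hw : shift z w = w := congrArg Prod.snd h'
      rw [toMat_z, Matrix.neg_mulVec, Matrix.one_mulVec] at hv
      apply Multiplicative.toAdd.injective
      refine Prod.ext ?_ ?_
      · funext i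
        show v i = 0
        have := congrFun hv i
        rw [Pi.neg_apply] at this
        exact z7_neg _ this
      · apply Subtype.ext; funext g
        show (w : G0 → ZMod 3) g = 0
        have := congrFun (congrArg Subtype.val hw) (z * g)
        rw [shift_apply, inv_mul_cancel_left, w.2 g] at this
        exact z3_neg _ this
    rw [hn1, map_one] at hn
    refine mem_spec (m := 2 * k) x ?_ hn
    interval_cases k <;> decide
  · have hg : x.right ^ p = 1 := by
      apply toMat_injective
      rw [map_pow, map_one]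
      have := geom_sum_mul (toMat x.right) p
      rw [show ∑ i ∈ Finset.range p, toMat x.right ^ i = 0 from hsum, zero_mul] at this
      exact (sub_eq_zero.1 this.symm)
    obtain ⟨n, hn, hfix⟩ := pow_eq_inl x hg
    have hv := hker n hfix _ rfl
    have hv0 : n.toAdd.1 = 0 := by
      have hpow : ∀ i : ℕ, (toMat x.right ^ i).mulVec n.toAdd.1 = n.toAdd.1 := by
        intro i
        induction i with
        | zero => simp
        | succ i ih => rw [pow_succ, ← Matrix.mulVec_mulVec, hv, ih]
      have h0 : (∑ i ∈ Finset.range p, toMat x.right ^ i).mulVec n.toAdd.1 = 0 := by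
        rw [show ∑ i ∈ Finset.range p, toMat x.right ^ i = 0 from hsum, Matrix.zero_mulVec]
      rw [Matrix.sum_mulVec, Finset.sum_congr rfl (fun i _ => hpow i), Finset.sum_const,
        Finset.card_range] at h0
      funext i
      have := congrFun h0 i
      rw [Pi.smul_apply, Pi.zero_apply] at this
      rw [Pi.zero_apply]
      rcases hp with rfl | rfl
      · exact (z7_small _).1 this
      · exact (z7_small _).2 this
    refine mem_spec (m := p * 3) x (by rcases hp with rfl | rfl <;> decide) ?_
    rw [pow_mul, hn, ← map_pow, pow_three n hv0, map_one]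

/-! ### Witnesses -/

theorem word_facts : genA * genB = mat 23654390124583 ∧
    mat 23654390124583 * mat 23654390124583 = mat 22603645711624 ∧
    mat 22603645711624 * mat 22603645711624 = -1 ∧
    genA * genB * genB = mat 8882280051142 ∧
    mat 8882280051142 * mat 8882280051142 = mat 14246077146115 ∧
    mat 14246077146115 * mat 14246077146115 * mat 14246077146115 = -1 ∧
    mat 14246077146115 * mat 14246077146115 ≠ 1 ∧
    genB * genB = mat 9913498896461 ∧ mat 9913498896461 ≠ 1 ∧
    mat 9913498896461 * mat 9913498896461 * mat 9913498896461 * mat 9913498896461 *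
      mat 9913498896461 = 1 := by
  decide +kernel

/-- The first generator in the group. -/
noncomputable def gA : G0 := ⟨uA, Subgroup.subset_closure (Set.mem_insert _ _)⟩

/-- The second generator in the group. -/
noncomputable def gB : G0 := ⟨uB, Subgroup.subset_closure (Set.mem_insert_of_mem _ rfl)⟩

theorem toMat_gA : toMat gA = genA := rfl

theorem toMat_gB : toMat gB = genB := rfl

theorem gA_sq : gA ^ 2 = z := rfl

theorem order_eight : orderOf (gA * gB) = 8 := by
  have h4 : (gA * gB) ^ 4 = z := toMat_injective (by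
    rw [map_pow, map_mul, toMat_gA, toMat_gB, toMat_z, word_facts.1, sq_sq, word_facts.2.1,
      word_facts.2.2.1])
  exact orderOf_eq_prime_pow (p := 2) (n := 2) (by rw [show 2 ^ 2 = 4 from rfl, h4]; exact z_ne_one)
    (by rw [show 2 ^ (2 + 1) = 4 * 2 from rfl, pow_mul, h4, pow_two, z_sq])

theorem order_twelve : orderOf (gA * gB * gB) = 12 := by
  set g := gA * gB * gB
  have hm : toMat g = mat 8882280051142 := by
    rw [map_mul, map_mul, toMat_gA, toMat_gB, word_facts.2.2.2.1]
  have h2 : toMat g * toMat g = mat 14246077146115 := by rw [hm, word_facts.2.2.2.2.1]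
  have h6 : g ^ 6 = z := toMat_injective (by
    rw [map_pow, toMat_z, sq_cube, h2]
    exact word_facts.2.2.2.2.2.1)
  have h4 : g ^ 4 ≠ 1 := fun h => word_facts.2.2.2.2.2.2.1 (by
    have := congrArg toMat h
    rwa [map_pow, map_one, sq_sq, h2] at this)
  have hd : orderOf g ∣ 12 := orderOf_dvd_of_pow_eq_one (by
    rw [show 12 = 6 * 2 from rfl, pow_mul, h6, pow_two, z_sq])
  have hle : orderOf g ≤ 12 := Nat.le_of_dvd (by norm_num) hd
  by_contra hne
  have h46 : orderOf g ∣ 4 ∨ orderOf g ∣ 6 := by
    have : ∀ d ≤ 12, d ∣ 12 → d ≠ 12 → d ∣ 4 ∨ d ∣ 6 := by decide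
    exact this _ hle hd hne
  rcases h46 with h | h
  · exact h4 (orderOf_dvd_iff_pow_eq_one.1 h)
  · exact z_ne_one (h6 ▸ orderOf_dvd_iff_pow_eq_one.1 h)

theorem order_five : orderOf (gB * gB) = 5 := by
  haveI : Fact (Nat.Prime 5) := ⟨by norm_num⟩
  have hm : toMat (gB * gB) = mat 9913498896461 := by
    rw [map_mul, toMat_gB, word_facts.2.2.2.2.2.2.2.1]
  refine orderOf_eq_prime (toMat_injective ?_) fun h => word_facts.2.2.2.2.2.2.2.2.1 ?_
  · rw [map_pow, map_one, hm]
    simp only [pow_succ, pow_zero, one_mul]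
    exact word_facts.2.2.2.2.2.2.2.2.2
  · rw [← hm, h, map_one]

/-- The signed indicator of a subgroup. -/
noncomputable def ind (C : Subgroup G0) (hC : z ∉ C) : W :=
  haveI := Classical.decPred (· ∈ C)
  ⟨fun g => if g ∈ C then 1 else if z * g ∈ C then -1 else 0, fun g => by
    have hzz : z * (z * g) = g := by rw [← mul_assoc, z_sq, one_mul]
    have hex : g ∈ C → z * g ∉ C := fun h h' => hC (by simpa using C.mul_mem h' (C.inv_mem h))
    by_cases h1 : g ∈ C
    · simp [h1, hex h1, hzz]
    · by_cases h2 : z * g ∈ C <;> simp [h1, h2, hzz]⟩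

theorem ind_one (C : Subgroup G0) (hC : z ∉ C) : (ind C hC : G0 → ZMod 3) 1 = 1 := by
  simp [ind]

theorem ind_mem (C : Subgroup G0) (hC : z ∉ C) {g : G0} (hg : g ∈ C) :
    (ind C hC : G0 → ZMod 3) g = 1 := by
  simp [ind, hg]

theorem z_not_mem {g : G0} (h : Odd (orderOf g)) : z ∉ Subgroup.zpowers g := by
  intro hz
  have h1 : orderOf z ∣ orderOf g := orderOf_dvd_of_mem_zpowers hz
  rw [orderOf_eq_prime (p := 2) (by rw [pow_two, z_sq]) z_ne_one] at h1
  exact h.not_two_dvd_nat h1

theorem ind_fix {g : G0} (h : Odd (orderOf g)) :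
    shift g (ind (Subgroup.zpowers g) (z_not_mem h)) = ind (Subgroup.zpowers g) (z_not_mem h) := by
  apply Subtype.ext; funext k
  rw [shift_apply]
  have hg : g⁻¹ ∈ Subgroup.zpowers g := Subgroup.inv_mem _ (Subgroup.mem_zpowers g)
  have e : z * (g⁻¹ * k) = g⁻¹ * (z * k) := by rw [← mul_assoc, z_comm, mul_assoc]
  simp only [ind, e, Subgroup.mul_mem_cancel_left _ hg]

theorem order_nine (c : G0) (h3 : orderOf c = 3) : ∃ x : H, orderOf x = 9 := by
  haveI : Fact (Nat.Prime 3) := ⟨Nat.prime_three⟩
  have hodd : Odd (orderOf c) := by rw [h3]; decide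
  have hc3 : c ^ 3 = 1 := by rw [← h3]; exact pow_orderOf_eq_one c
  have hzb : z ∉ (⊥ : Subgroup G0) := fun h => z_ne_one (Subgroup.mem_bot.1 h)
  obtain ⟨w3, hw3⟩ : ∃ w : W, w = ind ⊥ hzb := ⟨_, rfl⟩
  refine ⟨⟨Multiplicative.ofAdd (0, w3), c⟩, orderOf_eq_prime_pow (p := 3) (n := 1) ?_ ?_⟩
  · intro h
    rw [pow_one] at h
    have h' := congrArg SemidirectProduct.left h
    rw [cube_left, phi_apply, phi_apply, SemidirectProduct.one_left] at h'
    have hzero : ∀ k : G0, k ≠ 1 → z * k ≠ 1 → (w3 : G0 → ZMod 3) k = 0 := fun k h1 h2 => by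
      simp [hw3, ind, Subgroup.mem_bot, h1, h2]
    have hord : ∀ k : G0, orderOf k = 3 → k⁻¹ ≠ 1 ∧ z * k⁻¹ ≠ 1 := fun k hk => by
      refine ⟨fun e => ?_, fun e => ?_⟩
      · rw [← orderOf_inv, e, orderOf_one] at hk; norm_num at hk
      · rw [← orderOf_inv, ← inv_eq_of_mul_eq_one_right e, orderOf_inv,
          orderOf_eq_prime (p := 2) (by rw [pow_two, z_sq]) z_ne_one] at hk
        norm_num at hk
    have hcc : orderOf (c * c) = 3 := by rw [← pow_two, orderOf_pow, h3]; norm_num
    -- read the `W`-component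
    have hw := congrArg (fun y : N => y.toAdd.2) h'
    have hw1 : w3 + shift c w3 + shift (c * c) w3 = 0 := hw
    have h'' := congrFun (congrArg Subtype.val hw1) 1
    rw [AddSubgroup.coe_add, AddSubgroup.coe_add, AddSubgroup.coe_zero, Pi.add_apply, Pi.add_apply,
      Pi.zero_apply, shift_apply, shift_apply, mul_one, mul_one,
      hzero _ (hord c h3).1 (hord c h3).2, hzero _ (hord _ hcc).1 (hord _ hcc).2,
      add_zero, add_zero, hw3, ind_one] at h''
    exact one_ne_zero h''
  · obtain ⟨n, hn, -⟩ := pow_eq_inl (⟨Multiplicative.ofAdd (0, w3), c⟩ : H) (m := 3) hc3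
    have hn' : n.toAdd.1 = 0 := by
      have h' := congrArg SemidirectProduct.left hn
      rw [cube_left, phi_apply, phi_apply, SemidirectProduct.left_inl] at h'
      rw [← h']
      simp [Matrix.mulVec_zero]
    rw [show 3 ^ (1 + 1) = 3 * 3 from rfl, pow_mul, hn, ← map_pow, pow_three n hn', map_one]

theorem spec_surj : ∀ d ∈ spec, ∃ x : H, orderOf x = d := by
  have hinr : ∀ g : G0, orderOf (SemidirectProduct.inr (φ := phi) g : H) = orderOf g :=
    orderOf_injective _ SemidirectProduct.inr_injective
  have hA : orderOf gA = 4 :=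
    orderOf_eq_prime_pow (p := 2) (n := 1) (by rw [pow_one, gA_sq]; exact z_ne_one)
      (by rw [show 2 ^ (1 + 1) = 2 * 2 from rfl, pow_mul, gA_sq, pow_two, z_sq])
  have hz : orderOf z = 2 := orderOf_eq_prime (by rw [pow_two, z_sq]) z_ne_one
  have h10 : orderOf (z * (gB * gB)) = 10 := by
    rw [(show Commute z (gB * gB) from z_comm _).orderOf_mul_eq_mul_orderOf_of_coprime
      (by rw [hz, order_five]; norm_num), hz, order_five]
  have h3 : orderOf ((gA * gB * gB) ^ 4) = 3 := by
    rw [orderOf_pow, order_twelve]; norm_num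
  have h6 : orderOf ((gA * gB * gB) ^ 2) = 6 := by
    rw [orderOf_pow, order_twelve]; norm_num
  have hodd3 : Odd (orderOf ((gA * gB * gB) ^ 4)) := by rw [h3]; decide
  have hodd5 : Odd (orderOf (gB * gB)) := by rw [order_five]; decide
  set w3 := ind (Subgroup.zpowers ((gA * gB * gB) ^ 4)) (z_not_mem hodd3) with hw3
  set v0 : Fin 4 → ZMod 7 := fun _ => 1 with hv0
  have hne3 : ∀ v : Fin 4 → ZMod 7, (Multiplicative.ofAdd (v, w3) : N) ≠ 1 := fun v h => by
    have := congrFun (congrArg (fun y : N => ((y.toAdd.2 : W) : G0 → ZMod 3)) h) 1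
    change (w3 : G0 → ZMod 3) 1 = 0 at this
    rw [hw3, ind_one] at this
    exact one_ne_zero this
  have h21 : orderOf (Multiplicative.ofAdd (v0, w3) : N) = 21 := by
    have hd := orderOf_dvd_of_pow_eq_one (pow_twentyone (Multiplicative.ofAdd (v0, w3)))
    have hle : orderOf (Multiplicative.ofAdd (v0, w3) : N) ≤ 21 := Nat.le_of_dvd (by norm_num) hd
    by_contra hne
    have h37 : orderOf (Multiplicative.ofAdd (v0, w3) : N) ∣ 3 ∨
        orderOf (Multiplicative.ofAdd (v0, w3) : N) ∣ 7 := by
      have : ∀ d ≤ 21, d ∣ 21 → d ≠ 21 → d ∣ 3 ∨ d ∣ 7 := by decide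
      exact this _ hle hd hne
    rcases h37 with h | h
    · have := congrFun (congrArg (fun y : N => y.toAdd.1) (orderOf_dvd_iff_pow_eq_one.1 h)) 0
      change 3 • (1 : ZMod 7) = 0 at this
      exact absurd this (by decide)
    · have := congrFun (congrArg (fun y : N => ((y.toAdd.2 : W) : G0 → ZMod 3))
        (orderOf_dvd_iff_pow_eq_one.1 h)) 1
      change 7 • (w3 : G0 → ZMod 3) 1 = 0 at this
      rw [hw3, ind_one] at this
      exact absurd this (by decide)
  have h7 : orderOf ((Multiplicative.ofAdd (v0, w3) : N) ^ 3) = 7 := by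
    rw [orderOf_pow, h21]; norm_num
  have hinl : ∀ n : N, orderOf (SemidirectProduct.inl (φ := phi) n : H) = orderOf n :=
    orderOf_injective _ SemidirectProduct.inl_injective
  intro d hd
  simp only [spec, Finset.mem_insert, Finset.mem_singleton] at hd
  rcases hd with rfl | rfl | rfl | rfl | rfl | rfl | rfl | rfl | rfl | rfl | rfl | rfl | rfl
  · exact ⟨1, orderOf_one⟩
  · exact ⟨_, (hinr _).trans hz⟩
  · exact ⟨_, (hinr _).trans h3⟩
  · exact ⟨_, (hinr _).trans hA⟩
  · exact ⟨_, (hinr _).trans order_five⟩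
  · exact ⟨_, (hinr _).trans h6⟩
  · exact ⟨_, (hinl _).trans h7⟩
  · exact ⟨_, (hinr _).trans order_eight⟩
  · exact order_nine _ h3
  · exact ⟨_, (hinr _).trans h10⟩
  · exact ⟨_, (hinr _).trans order_twelve⟩
  · -- order 15
    set w5 := ind (Subgroup.zpowers (gB * gB)) (z_not_mem hodd5) with hw5
    set n : N := Multiplicative.ofAdd (0, w5)
    have hn3 : orderOf n = 3 := by
      haveI : Fact (Nat.Prime 3) := ⟨Nat.prime_three⟩
      refine orderOf_eq_prime (pow_three n rfl) fun h => ?_
      have := congrFun (congrArg (fun y : N => ((y.toAdd.2 : W) : G0 → ZMod 3)) h) 1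
      change (w5 : G0 → ZMod 3) 1 = 0 at this
      rw [hw5, ind_one] at this
      exact one_ne_zero this
    have hfix : phi (gB * gB) n = n := by
      rw [phi_apply, Matrix.mulVec_zero, hw5, ind_fix hodd5]
    refine ⟨SemidirectProduct.inl n * SemidirectProduct.inr (gB * gB), ?_⟩
    have hc : Commute (SemidirectProduct.inl n : H) (SemidirectProduct.inr (gB * gB)) := by
      apply SemidirectProduct.ext <;> simp [-map_mul, hfix]
    rw [hc.orderOf_mul_eq_mul_orderOf_of_coprime (by rw [hinl, hinr, hn3, order_five]; norm_num),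
      hinl, hinr, hn3, order_five]
  · exact ⟨_, (hinl _).trans h21⟩

theorem range_orderOf : Set.range (orderOf : H → ℕ) = ↑spec := by
  ext d
  simp only [Set.mem_range, Finset.mem_coe]
  exact ⟨fun ⟨x, hx⟩ => hx ▸ orderOf_mem x, spec_surj d⟩

theorem exists_kernel : ∃ K : Subgroup H, K.Normal ∧ K ≠ ⊥ ∧ Group.IsSolvable K := by
  refine ⟨(SemidirectProduct.inl (φ := phi)).range, ?_, ?_, ?_⟩
  · rw [SemidirectProduct.range_inl_eq_ker_rightHom]; infer_instance
  · intro h
    have := MonoidHom.range_eq_bot_iff.1 h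
    have h1 : (Multiplicative.ofAdd ((fun _ => 1 : Fin 4 → ZMod 7), (0 : W)) : N) = 1 :=
      SemidirectProduct.inl_injective (φ := phi) ((DFunLike.congr_fun this _).trans (map_one _).symm)
    exact absurd (congrFun (congrArg (fun y : N => y.toAdd.1) h1) 0) (by decide)
  · refine isSolvable_of_comm fun a b => ?_
    obtain ⟨_, x, rfl⟩ := a
    obtain ⟨_, y, rfl⟩ := b
    exact Subtype.ext (by simp only [Subgroup.coe_mul, ← map_mul, mul_comm])

/-! ### The alternating group of degree 10 -/

/-- All ways of extending a cycle type with total at most `n`. -/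
def check : ℕ → ℕ → ℕ → ℕ → Bool
  | 0, _, l, e => e % 2 == 1 || decide (l ∈ spec)
  | f + 1, n, l, e => (e % 2 == 1 || decide (l ∈ spec)) &&
      (List.range (n + 1)).all fun k =>
        decide (k < 2) || check f (n - k) (Nat.lcm k l) (e + k + 1)

theorem check_ten : check 5 10 1 0 = true := by decide +kernel

theorem check_sound : ∀ (L : List ℕ) (f n l e : ℕ), check f n l e = true → L.sum ≤ n →
    (∀ k ∈ L, 2 ≤ k) → L.length ≤ f → Even (e + (L.sum + L.length)) →
    L.foldl (fun l k => Nat.lcm k l) l ∈ spec := by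
  intro L
  induction L with
  | nil =>
    intro f n l e hc _ _ _ he
    simp only [List.sum_nil, List.length_nil, add_zero] at he
    have hmod : e % 2 = 0 := Nat.even_iff.1 he
    cases f <;> simp_all [check]
  | cons k L ih =>
    intro f n l e hc hsum hge hlen he
    simp only [List.sum_cons, List.length_cons] at hsum hlen he
    obtain ⟨f', rfl⟩ : ∃ f', f = f' + 1 := ⟨f - 1, by omega⟩
    have hk : 2 ≤ k := hge k List.mem_cons_self
    rw [check, Bool.and_eq_true, List.all_eq_true] at hc
    have := hc.2 k (List.mem_range.2 (by omega))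
    simp only [Bool.or_eq_true, decide_eq_true_eq, show ¬ k < 2 by omega, false_or] at this
    rw [List.foldl_cons]
    exact ih f' (n - k) _ _ this (by omega) (fun j hj => hge j (List.mem_cons_of_mem _ hj)) (by omega)
      (by rw [show e + k + 1 + (L.sum + L.length) = e + (k + L.sum + (L.length + 1)) by ring]; exact he)

end CfsgLib.Spectrum.A10
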