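import Mathlib.GroupTheory.SemidirectProduct
import Mathlib.Algebra.Group.Subgroup.Pointwise
import Cfsg.Prelude.Def_Solvable

/-!
A group acting without fixed points is a Frobenius complement in the semidirect product.
-/

set_option autoImplicit false

namespace CfsgLib.FpfSemidirect

open scoped Pointwise

theorem isFrobeniusComplement {M H : Type*} [Group M] [Group H] [Nontrivial M] [Nontrivial H] (φ : H →* MulAut M)
    (hfpf : ∀ h : H, h ≠ 1 → ∀ m : M, φ h m = m → m = 1) :
    Cfsg.IsFrobeniusComplement (SemidirectProduct.inr (φ := φ)).range := by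
  refine ⟨?_, ?_, fun g hg => ?_⟩
  · intro e
    obtain ⟨h, hh⟩ := exists_ne (1 : H)
    have hm : (SemidirectProduct.inr h : M ⋊[φ] H) ∈ (SemidirectProduct.inr (φ := φ)).range := ⟨h, rfl⟩
    rw [e, Subgroup.mem_bot] at hm
    exact hh (SemidirectProduct.inr_injective (hm.trans (map_one _).symm))
  · intro e
    obtain ⟨m, hm⟩ := exists_ne (1 : M)
    obtain ⟨h, hh⟩ : (SemidirectProduct.inl m : M ⋊[φ] H) ∈ (SemidirectProduct.inr (φ := φ)).range := e ▸ Subgroup.mem_top _
    exact hm (congrArg SemidirectProduct.left hh).symm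
  · refine (Subgroup.eq_bot_iff_forall _).2 fun x hx => ?_
    obtain ⟨⟨a, ha⟩, hx2⟩ := Subgroup.mem_inf.1 hx
    obtain ⟨y, ⟨b, hb⟩, hy⟩ := Subgroup.mem_map.1 hx2
    have hm : g.left ≠ 1 := fun e => hg ⟨g.right, SemidirectProduct.ext e.symm rfl⟩
    have heq : g * SemidirectProduct.inr b = SemidirectProduct.inr a * g := by
      rw [ha, ← hy, hb]
      simp
    have hl := congrArg SemidirectProduct.left heq
    simp only [SemidirectProduct.mul_left, SemidirectProduct.left_inr, SemidirectProduct.right_inr, map_one,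
      mul_one, one_mul] at hl
    by_cases ha1 : a = 1
    · rw [← ha, ha1, map_one]
    · exact absurd (hfpf a ha1 _ hl.symm) hm

end CfsgLib.FpfSemidirect
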