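import Mathlib.GroupTheory.SemidirectProduct
import Mathlib.GroupTheory.Perm.Cycle.Type
import Mathlib.LinearAlgebra.Matrix.SpecialLinearGroup
import Mathlib.LinearAlgebra.Matrix.ToLin
import Cfsg.Agent.Lie.Orders
import Cfsg.Agent.Lie.ProjLine

/-!
Arbitrarily large groups with the prime graph of SL₂ in characteristic 2.
-/

set_option autoImplicit false
set_option linter.style.haveILetI false

namespace CfsgLib.GraphTwo

open Matrix

section
variable (F : Type*) [Field F] (m : ℕ)

/-- The action on `m` copies of the natural module. -/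
def act : Matrix.SpecialLinearGroup (Fin 2) F →* MulAut (Multiplicative (Fin m → Fin 2 → F)) where
  toFun g := AddEquiv.toMultiplicative
    { toFun := fun v i => (g : Matrix (Fin 2) (Fin 2) F).mulVec (v i)
      invFun := fun v i => ((g⁻¹ : Matrix.SpecialLinearGroup (Fin 2) F) : Matrix (Fin 2) (Fin 2) F).mulVec (v i)
      left_inv := fun v => funext fun i => by
        simp only [Matrix.mulVec_mulVec, ← Matrix.SpecialLinearGroup.coe_mul, inv_mul_cancel,
          Matrix.SpecialLinearGroup.coe_one, Matrix.one_mulVec]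
      right_inv := fun v => funext fun i => by
        simp only [Matrix.mulVec_mulVec, ← Matrix.SpecialLinearGroup.coe_mul, mul_inv_cancel,
          Matrix.SpecialLinearGroup.coe_one, Matrix.one_mulVec]
      map_add' := fun v w => funext fun i => Matrix.mulVec_add _ _ _ }
  map_one' := by
    refine MulEquiv.ext fun v => Multiplicative.toAdd.injective (funext fun i => ?_)
    exact Matrix.one_mulVec _
  map_mul' g h := by
    refine MulEquiv.ext fun v => Multiplicative.toAdd.injective (funext fun i => ?_)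
    show ((g * h : Matrix.SpecialLinearGroup (Fin 2) F) : Matrix (Fin 2) (Fin 2) F).mulVec (Multiplicative.toAdd v i) =
      (g : Matrix (Fin 2) (Fin 2) F).mulVec ((h : Matrix (Fin 2) (Fin 2) F).mulVec (Multiplicative.toAdd v i))
    rw [Matrix.SpecialLinearGroup.coe_mul, Matrix.mulVec_mulVec]

variable {F m}

theorem fpf [CharP F 2] (g : Matrix.SpecialLinearGroup (Fin 2) F) (h : ¬ g * g = 1) (v : Fin 2 → F)
    (hv : (g : Matrix (Fin 2) (Fin 2) F).mulVec v = v) : v = 0 := by
  by_contra hv0
  set M : Matrix (Fin 2) (Fin 2) F := (g : Matrix (Fin 2) (Fin 2) F) with hM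
  have h2 : (2 : F) = 0 := CharP.cast_eq_zero F 2
  have hdet : (M - 1).det = 0 := Matrix.exists_mulVec_eq_zero_iff.1 ⟨v, hv0, by
    rw [Matrix.sub_mulVec, Matrix.one_mulVec, hv, sub_self]⟩
  have hd : M.det = 1 := g.2
  rw [Matrix.det_fin_two] at hdet hd
  simp only [Matrix.sub_apply, Matrix.one_apply_eq, Matrix.one_apply_ne (show (0 : Fin 2) ≠ 1 by decide),
    Matrix.one_apply_ne (show (1 : Fin 2) ≠ 0 by decide), sub_zero] at hdet
  refine h (Subtype.ext ?_)
  show M * M = 1
  have ht : M 0 0 + M 1 1 = 0 := by linear_combination -hdet + hd + h2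
  ext i j
  fin_cases i <;> fin_cases j <;> simp [Matrix.mul_apply, Fin.sum_univ_two]
  · linear_combination M 0 0 * ht - hd - h2
  · linear_combination M 0 1 * ht
  · linear_combination M 1 0 * ht
  · linear_combination M 1 1 * ht - hd - h2

end

/-- A large group with the same prime graph as `G`. -/
theorem exists_large {F : Type} [Field F] [Fintype F] [CharP F 2] (N : ℕ) :
    ∃ (H : Type) (_ : Group H) (_ : Finite H), N < Nat.card H ∧
      ((∀ p : ℕ, p.Prime → (p ∣ Nat.card (Matrix.SpecialLinearGroup (Fin 2) F) ↔ p ∣ Nat.card H)) ∧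
      (∀ p q : ℕ, p.Prime → q.Prime → p ≠ q →
        ((∃ g : Matrix.SpecialLinearGroup (Fin 2) F, orderOf g = p * q) ↔ (∃ g : H, orderOf g = p * q)))) := by
  classical
  let M := Multiplicative (Fin (N + 1) → Fin 2 → F)
  let φ := act F (N + 1)
  haveI : Finite (M ⋊[φ] Matrix.SpecialLinearGroup (Fin 2) F) := Finite.of_equiv _ SemidirectProduct.equivProd.symm
  have hsq : ∀ v : M, v ^ 2 = 1 := fun v => Multiplicative.toAdd.injective (by
    rw [toAdd_pow, two_nsmul]
    exact funext fun i => funext fun j => CharTwo.add_self_eq_zero _)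
  obtain ⟨n, hFn⟩ : ∃ n : ℕ, Fintype.card F = 2 ^ n := by
    obtain ⟨n, -, h⟩ := FiniteField.card F 2
    exact ⟨n, h⟩
  have hn : n ≠ 0 := by
    rintro rfl
    exact absurd hFn (Fintype.one_lt_card (α := F)).ne'
  have hM : Nat.card M = 2 ^ (n * (2 * (N + 1))) := by
    rw [show Nat.card M = Nat.card (Fin (N + 1) → Fin 2 → F) from rfl, Nat.card_fun, Nat.card_fun,
      Nat.card_eq_fintype_card (α := F), hFn, ← pow_mul, ← pow_mul, Nat.card_fin, Nat.card_fin]
  refine ⟨M ⋊[φ] Matrix.SpecialLinearGroup (Fin 2) F, inferInstance, inferInstance, ?_, ?_, ?_⟩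
  · rw [SemidirectProduct.card, hM]
    have h1 : N + 1 < 2 ^ (N + 1) := Nat.lt_two_pow_self
    have h2 : 2 ^ (N + 1) ≤ 2 ^ (n * (2 * (N + 1))) := Nat.pow_le_pow_right two_pos (by
      calc N + 1 ≤ 1 * (2 * (N + 1)) := by omega
        _ ≤ n * (2 * (N + 1)) := Nat.mul_le_mul_right _ (Nat.one_le_iff_ne_zero.2 hn))
    have h3 : 0 < Nat.card (Matrix.SpecialLinearGroup (Fin 2) F) := Nat.card_pos
    nlinarith
  · intro p hp
    rw [SemidirectProduct.card, hM]
    refine ⟨fun h => Dvd.dvd.mul_left h _, fun h => ?_⟩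
    rcases hp.dvd_mul.1 h with h | h
    · rw [(Nat.prime_dvd_prime_iff_eq hp Nat.prime_two).1 (hp.dvd_of_dvd_pow h),
        CfsgLib.Lie.Orders.card_SL_two hFn]
      exact Dvd.dvd.mul_right (dvd_pow_self 2 hn) _
    · exact h
  · intro p q hp hq hpq
    refine ⟨fun ⟨g, hg⟩ => ⟨SemidirectProduct.inr g, by rw [orderOf_injective _ SemidirectProduct.inr_injective, hg]⟩, ?_⟩
    rintro ⟨x, hx⟩
    let a := SemidirectProduct.rightHom x
    have hda : orderOf a ∣ p * q := hx ▸ orderOf_map_dvd _ x
    have hker : ∀ k, a ^ k = 1 → p * q ∣ 2 * k := by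
      intro k hk
      rw [← hx]
      refine orderOf_dvd_of_pow_eq_one ?_
      have hr : (x ^ k).right = 1 := (map_pow SemidirectProduct.rightHom x k).trans hk
      rw [mul_comm, pow_mul, show x ^ k = SemidirectProduct.inl (x ^ k).left from SemidirectProduct.ext rfl hr,
        ← map_pow, hsq, map_one]
    -- reduce to the case that `q` is odd
    wlog hq2 : q ≠ 2 generalizing p q
    · push Not at hq2
      obtain ⟨g, hg⟩ := this q p hq hp hpq.symm (by rw [mul_comm, hx]) (by rwa [mul_comm])
        (fun k hk => by rw [mul_comm]; exact hker k hk) (fun h => hpq (h.trans hq2.symm))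
      exact ⟨g, by rw [hg, mul_comm]⟩
    have hqa : q ∣ orderOf a := by
      have h1 := hker _ (pow_orderOf_eq_one a)
      exact ((Nat.coprime_primes hq Nat.prime_two).2 hq2).dvd_of_dvd_mul_left ((dvd_mul_left q p).trans h1)
    by_cases hpa : p ∣ orderOf a
    · exact ⟨a, Nat.dvd_antisymm hda (((Nat.coprime_primes hp hq).2 hpq).mul_dvd_of_dvd_of_dvd hpa hqa)⟩
    · exfalso
      have haq : orderOf a = q := by
        refine Nat.dvd_antisymm ?_ hqa
        exact (((hp.coprime_iff_not_dvd).2 hpa).symm).dvd_of_dvd_mul_left hda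
      have hp2 : p = 2 := by
        have h1 := hker q (haq ▸ pow_orderOf_eq_one a)
        rcases hp.dvd_mul.1 ((dvd_mul_right p q).trans h1) with h | h
        · exact (Nat.prime_dvd_prime_iff_eq hp Nat.prime_two).1 h
        · exact absurd ((Nat.prime_dvd_prime_iff_eq hp hq).1 h) hpq
      have hr : (x ^ q).right = 1 := (map_pow SemidirectProduct.rightHom x q).trans (haq ▸ pow_orderOf_eq_one a)
      set w := (x ^ q).left with hw
      have hxq : x ^ q = SemidirectProduct.inl w := SemidirectProduct.ext rfl hr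
      have hcomm : x * SemidirectProduct.inl w = SemidirectProduct.inl w * x :=
        hxq ▸ (Commute.self_pow x q).eq
      have h1 := congrArg SemidirectProduct.left hcomm
      simp only [SemidirectProduct.mul_left, SemidirectProduct.left_inl, SemidirectProduct.right_inl,
        map_one, MulAut.one_apply] at h1
      rw [mul_comm w, mul_right_inj] at h1
      have ha2 : ¬ a * a = 1 := fun h => by
        have := orderOf_dvd_of_pow_eq_one (show a ^ 2 = 1 by rw [sq, h])
        rw [haq, Nat.prime_dvd_prime_iff_eq hq Nat.prime_two] at this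
        exact hq2 this
      have hw1 : w = 1 := Multiplicative.toAdd.injective (funext fun i => fpf _ ha2 _
        (congrFun (congrArg Multiplicative.toAdd h1) i))
      rw [hw1, map_one] at hxq
      have := orderOf_dvd_of_pow_eq_one hxq
      rw [hx] at this
      exact hq.not_dvd_one ((Nat.coprime_primes hp hq).2 hpq |>.symm.dvd_of_dvd_mul_left (by
        have h4 : p * q ∣ q * 1 := by rwa [mul_one]
        exact absurd (Nat.le_of_dvd hq.pos this) (by nlinarith [hp.two_le, hq.pos])))

/-- In characteristic two, PSL₂ is SL₂. -/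
theorem psl_equiv {F : Type*} [Field F] [Fintype F] [CharP F 2] :
    Nonempty (Matrix.ProjectiveSpecialLinearGroup (Fin 2) F ≃* Matrix.SpecialLinearGroup (Fin 2) F) := by
  obtain ⟨n, hn, hFn⟩ := FiniteField.card F 2
  have h1 := CfsgLib.Lie.ProjLine.card_PSL_two (F := F) hFn
  have hg : Nat.gcd 2 (2 ^ (n : ℕ) - 1) = 1 := by
    rw [Nat.coprime_iff_gcd_eq_one.symm, Nat.prime_two.coprime_iff_not_dvd]
    have : 2 ∣ 2 ^ (n : ℕ) := dvd_pow_self 2 n.pos.ne'
    have : 0 < 2 ^ (n : ℕ) := pow_pos two_pos _
    omega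
  rw [hg, one_mul, ← CfsgLib.Lie.Orders.card_SL_two hFn] at h1
  let π : Matrix.SpecialLinearGroup (Fin 2) F →* Matrix.ProjectiveSpecialLinearGroup (Fin 2) F :=
    QuotientGroup.mk' (Subgroup.center _)
  exact ⟨(MulEquiv.ofBijective π ((Nat.bijective_iff_surjective_and_card π).2
    ⟨QuotientGroup.mk'_surjective _, h1.symm⟩)).symm⟩

end CfsgLib.GraphTwo
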