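import Mathlib.FieldTheory.Finite.GaloisField
import Mathlib.GroupTheory.SemidirectProduct
import Mathlib.GroupTheory.QuotientGroup.Basic
import Mathlib.RingTheory.IntegralDomain
import Mathlib.Tactic

/-!
Minimal groups whose element orders are `1`, `a`, `b` for two primes.
-/

set_option autoImplicit false
set_option linter.style.haveILetI false

namespace CfsgLib.MinTwoPrime

/-- Element orders exactly `1, a, b`, and the elements killed by `a` are closed under multiplication. -/
structure Good (a b : ℕ) (G : Type) [Group G] : Prop where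
  orders : ∀ x : G, orderOf x = 1 ∨ orderOf x = a ∨ orderOf x = b
  has_a : ∃ x : G, orderOf x = a
  has_b : ∃ x : G, orderOf x = b
  closed : ∀ x y : G, x ^ a = 1 → y ^ a = 1 → (x * y) ^ a = 1

variable {a b : ℕ}

theorem orderOf_of_map {G H : Type} [Group G] [Group H] (ha : a.Prime) (hb : b.Prime) {x : G}
    (hx : orderOf x = 1 ∨ orderOf x = a ∨ orderOf x = b) (f : G →* H) :
    orderOf (f x) = 1 ∨ orderOf (f x) = a ∨ orderOf (f x) = b := by
  have hd := orderOf_map_dvd f x
  rcases hx with h | h | h <;> rw [h] at hd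
  · exact .inl (Nat.dvd_one.1 hd)
  · rcases (Nat.dvd_prime ha).1 hd with e | e
    · exact .inl e
    · exact .inr (.inl e)
  · rcases (Nat.dvd_prime hb).1 hd with e | e
    · exact .inl e
    · exact .inr (.inr e)

theorem good_sub {G : Type} [Group G] (h : Good a b G) (H : Subgroup G) (ha : ∃ x : H, orderOf x = a)
    (hb : ∃ x : H, orderOf x = b) : Good a b H where
  orders x := by rw [← Subgroup.orderOf_coe]; exact h.orders x
  has_a := ha
  has_b := hb
  closed x y hx hy := Subtype.ext (by
    have := h.closed x y (by rw [← Subgroup.coe_pow, hx, Subgroup.coe_one]) (by rw [← Subgroup.coe_pow, hy, Subgroup.coe_one])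
    simpa using this)

theorem good_quot {G : Type} [Group G] (hap : a.Prime) (hbp : b.Prime) (hab : a ≠ b) (h : Good a b G)
    (N : Subgroup G) [N.Normal] (ha : ∃ x : G ⧸ N, orderOf x = a) (hb : ∃ x : G ⧸ N, orderOf x = b) :
    Good a b (G ⧸ N) where
  orders q := by
    obtain ⟨x, rfl⟩ := QuotientGroup.mk'_surjective N q
    exact orderOf_of_map hap hbp (h.orders x) _
  has_a := ha
  has_b := hb
  closed q r hq hr := by
    have lift : ∀ q : G ⧸ N, q ^ a = 1 → ∃ x : G, x ^ a = 1 ∧ QuotientGroup.mk' N x = q := by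
      intro q hq
      obtain ⟨x, rfl⟩ := QuotientGroup.mk'_surjective N q
      rcases h.orders x with e | e | e
      · exact ⟨x, by rw [orderOf_eq_one_iff.1 e, one_pow], rfl⟩
      · exact ⟨x, by rw [← e, pow_orderOf_eq_one], rfl⟩
      · refine ⟨1, one_pow a, ?_⟩
        have h1 := orderOf_dvd_of_pow_eq_one hq
        have h2 := e ▸ orderOf_map_dvd (QuotientGroup.mk' N) x
        have h3 : orderOf (QuotientGroup.mk' N x) = 1 :=
          Nat.eq_one_of_dvd_coprimes ((Nat.coprime_primes hap hbp).2 hab) h1 h2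
        rw [map_one, orderOf_eq_one_iff.1 h3]
    obtain ⟨x, hx, rfl⟩ := lift q hq
    obtain ⟨y, hy, rfl⟩ := lift r hr
    rw [← map_mul, ← map_pow, h.closed x y hx hy, map_one]

/-- Multiplication by a root of unity. -/
theorem exists_good (ha : a.Prime) (hb : b.Prime) (hab : a ≠ b) :
    ∃ (G : Type) (_ : Group G) (_ : Fintype G), Good a b G := by
  classical
  haveI := Fact.mk ha
  haveI := Fact.mk hb
  let F := GaloisField a (b - 1)
  have hb1 : b - 1 ≠ 0 := by have := hb.two_le; omega
  haveI : Finite F := Module.finite_of_finite (ZMod a)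
  haveI := Fintype.ofFinite F
  have hF : Nat.card F = a ^ (b - 1) := GaloisField.card a (b - 1) hb1
  have hdvd : b ∣ Nat.card Fˣ := by
    rw [Nat.card_units, hF]
    have h := Nat.ModEq.pow_totient ((Nat.coprime_primes ha hb).2 hab)
    rw [Nat.totient_prime hb] at h
    exact (Nat.modEq_iff_dvd' (Nat.one_le_pow _ _ ha.pos)).1 h.symm
  obtain ⟨ζ, hζ⟩ := exists_prime_orderOf_dvd_card' b hdvd
  let C : Subgroup Fˣ := Subgroup.zpowers ζ
  let φ : C →* MulAut (Multiplicative F) :=
    { toFun := fun c => AddEquiv.toMultiplicative (AddEquiv.mk' (Equiv.mulLeft₀ ((c : Fˣ) : F) (Units.ne_zero _))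
        (fun x y => mul_add _ x y))
      map_one' := by ext x; exact one_mul (Multiplicative.toAdd x)
      map_mul' := fun c d => by ext x; exact mul_assoc ((c : Fˣ) : F) ((d : Fˣ) : F) (Multiplicative.toAdd x) }
  haveI : Finite (Multiplicative F ⋊[φ] C) := Finite.of_equiv _ SemidirectProduct.equivProd.symm
  refine ⟨Multiplicative F ⋊[φ] C, inferInstance, Fintype.ofFinite _, ?_⟩
  have hC : Nat.card C = b := by rw [Nat.card_zpowers, hζ]
  have hchar : ∀ x : F, a • x = 0 := fun x => by rw [nsmul_eq_mul, CharP.cast_eq_zero, zero_mul]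
  have happly : ∀ (c : C) (x : F), φ c (Multiplicative.ofAdd x) = Multiplicative.ofAdd (((c : Fˣ) : F) * x) :=
    fun c x => rfl
  have hexp : ∀ v : Multiplicative F, v ^ a = 1 := fun v =>
    Multiplicative.toAdd.injective (by rw [toAdd_pow, hchar]; rfl)
  have hinl : ∀ v : Multiplicative F, (SemidirectProduct.inl v : Multiplicative F ⋊[φ] C) ^ a = 1 := fun v => by
    rw [← map_pow, hexp, map_one]
  -- elements outside the kernel have order b
  have hout : ∀ g : Multiplicative F ⋊[φ] C, g.right ≠ 1 → orderOf g = b := by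
    intro g hg
    refine orderOf_eq_prime ?_ fun e => hg (by rw [e]; rfl)
    set c : F := ((g.right : Fˣ) : F) with hc
    have hc1 : c ≠ 1 := fun e => hg (Subtype.ext (Units.ext e))
    have key : ∀ k : ℕ, (g ^ k).right = g.right ^ k ∧
        Multiplicative.toAdd (g ^ k).left = (∑ i ∈ Finset.range k, c ^ i) * Multiplicative.toAdd g.left := by
      intro k
      induction k with
      | zero => simp
      | succ k ih =>
        refine ⟨by rw [pow_succ', SemidirectProduct.mul_right, ih.1, pow_succ'], ?_⟩
        rw [pow_succ', SemidirectProduct.mul_left, toAdd_mul]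
        rw [← ofAdd_toAdd (g ^ k).left, happly, toAdd_ofAdd, ih.2, Finset.sum_range_succ', pow_zero, add_mul,
          one_mul, add_comm, Finset.sum_mul, Finset.sum_mul, Finset.mul_sum]
        congr 1
        exact Finset.sum_congr rfl fun i _ => by rw [pow_succ']; ring
    have hb' : g.right ^ b = 1 := (congrArg (g.right ^ ·) hC.symm).trans pow_card_eq_one'
    have hcb : c ^ b = 1 := by
      have := congrArg (fun z : C => ((z : Fˣ) : F)) hb'
      simpa using this
    obtain ⟨h1, h2⟩ := key b
    refine SemidirectProduct.ext (Multiplicative.toAdd.injective ?_) (by rw [h1, hb']; rfl)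
    rw [h2, geom_sum_eq hc1, hcb, sub_self, zero_div, zero_mul]
    rfl
  have horder : ∀ g : Multiplicative F ⋊[φ] C, orderOf g = 1 ∨ orderOf g = a ∨ orderOf g = b := by
    intro g
    by_cases hg : g.right = 1
    · have : g = SemidirectProduct.inl g.left := SemidirectProduct.ext rfl hg
      have hd : orderOf g ∣ a := orderOf_dvd_of_pow_eq_one (by rw [this, hinl])
      rcases (Nat.dvd_prime ha).1 hd with e | e
      · exact .inl e
      · exact .inr (.inl e)
    · exact .inr (.inr (hout g hg))
  refine ⟨horder, ?_, ?_, ?_⟩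
  · refine ⟨SemidirectProduct.inl (Multiplicative.ofAdd (1 : F)), orderOf_eq_prime (hinl _) fun e => ?_⟩
    exact one_ne_zero (congrArg (fun z : Multiplicative F ⋊[φ] C => Multiplicative.toAdd z.left) e)
  · refine ⟨SemidirectProduct.inr ⟨ζ, Subgroup.mem_zpowers ζ⟩, hout _ fun e => ?_⟩
    have : ζ = 1 := congrArg Subtype.val e
    rw [this, orderOf_one] at hζ
    exact hb.ne_one hζ.symm
  · intro x y hx hy
    have hr : ∀ z : Multiplicative F ⋊[φ] C, z ^ a = 1 → z.right = 1 := by
      intro z hz
      by_contra hne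
      have := orderOf_dvd_of_pow_eq_one hz
      rw [hout z hne] at this
      exact hab ((Nat.prime_dvd_prime_iff_eq hb ha).1 this).symm
    have h1 : (x * y).right = 1 := by rw [SemidirectProduct.mul_right, hr x hx, hr y hy, one_mul]
    rw [show x * y = SemidirectProduct.inl (x * y).left from SemidirectProduct.ext rfl h1]
    exact hinl _

/-- A minimal good group: no proper section is good. -/
theorem exists_minimal (ha : a.Prime) (hb : b.Prime) (hab : a ≠ b) :
    ∃ (K : Type) (_ : Group K) (_ : Fintype K), Good a b K ∧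
      (∀ H : Subgroup K, (∃ x : H, orderOf x = a) → (∃ x : H, orderOf x = b) → H = ⊤) ∧
      ∀ (N : Subgroup K) [N.Normal], (∃ x : K ⧸ N, orderOf x = a) → (∃ x : K ⧸ N, orderOf x = b) → N = ⊥ := by
  classical
  have hex : ∃ n : ℕ, ∃ (K : Type) (_ : Group K) (_ : Fintype K), Nat.card K = n ∧ Good a b K := by
    obtain ⟨K, i1, i2, hK⟩ := exists_good ha hb hab
    exact ⟨_, K, i1, i2, rfl, hK⟩
  obtain ⟨K, i1, i2, hn, hK⟩ := Nat.find_spec hex
  have hmin : ∀ (L : Type) [Group L] [Fintype L], Good a b L → Nat.card K ≤ Nat.card L := fun L j1 j2 hL =>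
    hn ▸ Nat.find_le ⟨L, j1, j2, rfl, hL⟩
  refine ⟨K, i1, i2, hK, fun H h1 h2 => ?_, fun N _ h1 h2 => ?_⟩
  · haveI := Fintype.ofFinite H
    exact Subgroup.eq_top_of_le_card _ (hmin H (good_sub hK H h1 h2))
  · haveI := Fintype.ofFinite (K ⧸ N)
    have hle := hmin (K ⧸ N) (good_quot ha hb hab hK N h1 h2)
    have hmul := N.card_eq_card_quotient_mul_card_subgroup
    have hpos : 0 < Nat.card (K ⧸ N) := Nat.card_pos
    refine Subgroup.card_eq_one.1 ?_
    nlinarith [Nat.card_pos (α := N)]

theorem orders_eq {G : Type} [Group G] (h : Good a b G) (n : ℕ) :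
    (∃ x : G, orderOf x = n) ↔ n = 1 ∨ n = a ∨ n = b := by
  constructor
  · rintro ⟨x, rfl⟩; exact h.orders x
  · rintro (rfl | rfl | rfl)
    · exact ⟨1, orderOf_one⟩
    · exact h.has_a
    · exact h.has_b

end CfsgLib.MinTwoPrime
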