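import Mathlib.Algebra.QuadraticAlgebra.Basic
import Mathlib.LinearAlgebra.Matrix.SpecialLinearGroup
import Mathlib.LinearAlgebra.Matrix.Nondegenerate
import Mathlib.GroupTheory.SemidirectProduct
import Cfsg.Agent.Char.Burnside
import Mathlib.Tactic

/-!
The binary octahedral group of order 48 inside SL(2,169), and its Frobenius group over GF(169).
-/

set_option autoImplicit false
set_option maxRecDepth 4000

namespace CfsgLib.Octahedral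

abbrev Q := QuadraticAlgebra (ZMod 13) 2 0

instance : Fact (Nat.Prime 13) := ⟨by norm_num⟩

instance : Fact (∀ r : ZMod 13, r ^ 2 ≠ (2 : ZMod 13) + 0 * r) := ⟨by decide⟩

instance : Finite Q := Finite.of_equiv _ (QuadraticAlgebra.equivProd (2 : ZMod 13) 0).symm

abbrev M := Q × Q × Q × Q

def m (x y : M) : M :=
  (x.1 * y.1 + x.2.1 * y.2.2.1, x.1 * y.2.1 + x.2.1 * y.2.2.2, x.2.2.1 * y.1 + x.2.2.2 * y.2.2.1,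
    x.2.2.1 * y.2.1 + x.2.2.2 * y.2.2.2)

def els : List M :=
  [(⟨1, 0⟩, ⟨0, 0⟩, ⟨0, 0⟩, ⟨1, 0⟩),
    (⟨0, 0⟩, ⟨12, 0⟩, ⟨1, 0⟩, ⟨0, 1⟩),
    (⟨0, 0⟩, ⟨0, 2⟩, ⟨0, 3⟩, ⟨1, 0⟩),
    (⟨12, 0⟩, ⟨0, 12⟩, ⟨0, 1⟩, ⟨1, 0⟩),
    (⟨0, 10⟩, ⟨12, 0⟩, ⟨6, 0⟩, ⟨0, 3⟩),
    (⟨0, 2⟩, ⟨4, 0⟩, ⟨1, 0⟩, ⟨0, 11⟩),
    (⟨12, 0⟩, ⟨0, 2⟩, ⟨0, 3⟩, ⟨0, 0⟩),
    (⟨0, 12⟩, ⟨12, 0⟩, ⟨1, 0⟩, ⟨0, 0⟩),
    (⟨7, 0⟩, ⟨0, 10⟩, ⟨0, 3⟩, ⟨5, 0⟩),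
    (⟨0, 10⟩, ⟨0, 0⟩, ⟨5, 0⟩, ⟨0, 2⟩),
    (⟨4, 0⟩, ⟨0, 2⟩, ⟨0, 11⟩, ⟨8, 0⟩),
    (⟨0, 2⟩, ⟨5, 0⟩, ⟨0, 0⟩, ⟨0, 10⟩),
    (⟨12, 0⟩, ⟨0, 0⟩, ⟨0, 0⟩, ⟨12, 0⟩),
    (⟨0, 10⟩, ⟨8, 0⟩, ⟨0, 0⟩, ⟨0, 2⟩),
    (⟨8, 0⟩, ⟨0, 11⟩, ⟨0, 2⟩, ⟨4, 0⟩),
    (⟨0, 0⟩, ⟨0, 3⟩, ⟨0, 2⟩, ⟨12, 0⟩),
    (⟨0, 0⟩, ⟨1, 0⟩, ⟨12, 0⟩, ⟨0, 12⟩),
    (⟨0, 2⟩, ⟨0, 0⟩, ⟨8, 0⟩, ⟨0, 10⟩),
    (⟨12, 0⟩, ⟨0, 10⟩, ⟨0, 11⟩, ⟨0, 0⟩),
    (⟨5, 0⟩, ⟨0, 3⟩, ⟨0, 10⟩, ⟨7, 0⟩),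
    (⟨0, 0⟩, ⟨0, 11⟩, ⟨0, 10⟩, ⟨12, 0⟩),
    (⟨0, 11⟩, ⟨9, 0⟩, ⟨12, 0⟩, ⟨0, 2⟩),
    (⟨0, 11⟩, ⟨1, 0⟩, ⟨4, 0⟩, ⟨0, 2⟩),
    (⟨1, 0⟩, ⟨0, 1⟩, ⟨0, 12⟩, ⟨12, 0⟩),
    (⟨0, 3⟩, ⟨6, 0⟩, ⟨12, 0⟩, ⟨0, 10⟩),
    (⟨0, 3⟩, ⟨1, 0⟩, ⟨7, 0⟩, ⟨0, 10⟩),
    (⟨0, 0⟩, ⟨8, 0⟩, ⟨8, 0⟩, ⟨0, 0⟩),
    (⟨8, 0⟩, ⟨0, 8⟩, ⟨0, 0⟩, ⟨5, 0⟩),
    (⟨5, 0⟩, ⟨0, 0⟩, ⟨0, 8⟩, ⟨8, 0⟩),
    (⟨1, 0⟩, ⟨0, 11⟩, ⟨0, 10⟩, ⟨0, 0⟩),
    (⟨9, 0⟩, ⟨0, 11⟩, ⟨0, 2⟩, ⟨5, 0⟩),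
    (⟨0, 1⟩, ⟨1, 0⟩, ⟨12, 0⟩, ⟨0, 0⟩),
    (⟨1, 0⟩, ⟨0, 3⟩, ⟨0, 2⟩, ⟨0, 0⟩),
    (⟨6, 0⟩, ⟨0, 3⟩, ⟨0, 10⟩, ⟨8, 0⟩),
    (⟨0, 5⟩, ⟨5, 0⟩, ⟨8, 0⟩, ⟨0, 8⟩),
    (⟨0, 3⟩, ⟨0, 0⟩, ⟨8, 0⟩, ⟨0, 11⟩),
    (⟨0, 11⟩, ⟨8, 0⟩, ⟨0, 0⟩, ⟨0, 3⟩),
    (⟨0, 8⟩, ⟨8, 0⟩, ⟨5, 0⟩, ⟨0, 5⟩),
    (⟨0, 0⟩, ⟨0, 10⟩, ⟨0, 11⟩, ⟨1, 0⟩),
    (⟨0, 11⟩, ⟨0, 0⟩, ⟨5, 0⟩, ⟨0, 3⟩),
    (⟨0, 3⟩, ⟨5, 0⟩, ⟨0, 0⟩, ⟨0, 11⟩),
    (⟨5, 0⟩, ⟨0, 5⟩, ⟨0, 0⟩, ⟨8, 0⟩),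
    (⟨5, 0⟩, ⟨0, 2⟩, ⟨0, 11⟩, ⟨9, 0⟩),
    (⟨0, 2⟩, ⟨12, 0⟩, ⟨9, 0⟩, ⟨0, 11⟩),
    (⟨8, 0⟩, ⟨0, 10⟩, ⟨0, 3⟩, ⟨6, 0⟩),
    (⟨8, 0⟩, ⟨0, 0⟩, ⟨0, 5⟩, ⟨5, 0⟩),
    (⟨0, 10⟩, ⟨7, 0⟩, ⟨1, 0⟩, ⟨0, 3⟩),
    (⟨0, 0⟩, ⟨5, 0⟩, ⟨5, 0⟩, ⟨0, 0⟩)]

theorem closed : els.all (fun x => els.all (fun y => els.contains (m x y))) = true := by decide +kernel

theorem one_mem_els : els.contains (1, 0, 0, 1) = true := by decide +kernel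

theorem det_one : els.all (fun x => x.1 * x.2.2.2 - x.2.1 * x.2.2.1 == 1) = true := by decide +kernel

theorem no_eig : els.all (fun x => x == (1, 0, 0, 1) || x.1 + x.2.2.2 != 2) = true := by decide +kernel

theorem ords : els.all (fun x =>
    m (m (m x x) x) (m (m x x) x) == (1, 0, 0, 1) || m (m (m x x) (m x x)) (m (m x x) (m x x)) == (1, 0, 0, 1)) = true := by
  decide +kernel

theorem has_six : els.any (fun x => m (m x x) x != (1, 0, 0, 1) && m x x != (1, 0, 0, 1) &&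
    m (m (m x x) x) (m (m x x) x) == (1, 0, 0, 1)) = true := by decide +kernel

theorem has_eight : els.any (fun x => m (m x x) (m x x) != (1, 0, 0, 1) &&
    m (m (m x x) (m x x)) (m (m x x) (m x x)) == (1, 0, 0, 1)) = true := by decide +kernel

theorem nodup_els : els.Nodup := by decide +kernel

def toMat (x : M) : Matrix (Fin 2) (Fin 2) Q := !![x.1, x.2.1; x.2.2.1, x.2.2.2]

def ofMat (g : Matrix (Fin 2) (Fin 2) Q) : M := (g 0 0, g 0 1, g 1 0, g 1 1)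

theorem ofMat_mul (g h : Matrix (Fin 2) (Fin 2) Q) : ofMat (g * h) = m (ofMat g) (ofMat h) := by
  simp [ofMat, m, Matrix.mul_apply, Fin.sum_univ_two]

theorem toMat_ofMat (g : Matrix (Fin 2) (Fin 2) Q) : toMat (ofMat g) = g := (Matrix.eta_fin_two g).symm

theorem ofMat_one : ofMat (1 : Matrix (Fin 2) (Fin 2) Q) = (1, 0, 0, 1) := by simp [ofMat]

instance : Finite (Matrix.SpecialLinearGroup (Fin 2) Q) := Subtype.finite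

/-- The group. -/
def O48 : Subgroup (Matrix.SpecialLinearGroup (Fin 2) Q) :=
  Subgroup.closure {g | els.contains (ofMat g.1) = true}

theorem mem_O48 {g : Matrix.SpecialLinearGroup (Fin 2) Q} (h : g ∈ O48) : els.contains (ofMat g.1) = true := by
  rw [O48, ← Subgroup.mem_toSubmonoid, Subgroup.closure_toSubmonoid_of_finite] at h
  induction h using Submonoid.closure_induction with
  | mem x hx => exact hx
  | one => rw [Matrix.SpecialLinearGroup.coe_one, ofMat_one]; exact one_mem_els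
  | mul x y _ _ hx hy =>
    rw [Matrix.SpecialLinearGroup.coe_mul, ofMat_mul]
    have h1 := List.all_eq_true.1 closed _ (List.contains_iff_mem.1 hx)
    exact List.all_eq_true.1 h1 _ (List.contains_iff_mem.1 hy)

theorem ofMat_injective {g h : Matrix.SpecialLinearGroup (Fin 2) Q} (e : ofMat g.1 = ofMat h.1) : g = h :=
  Subtype.ext (by rw [← toMat_ofMat g.1, e, toMat_ofMat])

theorem exists_mem (x : M) (hx : x ∈ els) : ∃ g ∈ O48, ofMat (g : Matrix.SpecialLinearGroup (Fin 2) Q).1 = x := by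
  have hd := List.all_eq_true.1 det_one x hx
  rw [beq_iff_eq] at hd
  refine ⟨⟨toMat x, by rw [toMat, Matrix.det_fin_two_of]; exact hd⟩, Subgroup.subset_closure ?_, ?_⟩
  · show els.contains (ofMat (toMat x)) = true
    simpa [ofMat, toMat] using hx
  · simp [ofMat, toMat]

theorem card_O48 : Nat.card O48 = 48 := by
  have e : Nat.card O48 = Nat.card {x : M // x ∈ els} := by
    refine Nat.card_congr (Equiv.ofBijective (fun g => ⟨ofMat (g : Matrix.SpecialLinearGroup (Fin 2) Q).1,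
      List.contains_iff_mem.1 (mem_O48 g.2)⟩) ⟨fun g h e => Subtype.ext (ofMat_injective (congrArg Subtype.val e)),
      fun x => ?_⟩)
    obtain ⟨g, hg, hx⟩ := exists_mem x.1 x.2
    exact ⟨⟨g, hg⟩, Subtype.ext hx⟩
  rw [e]
  have : Nat.card {x : M // x ∈ els} = els.length := by
    rw [← List.toFinset_card_of_nodup nodup_els, ← Nat.card_eq_finsetCard]
    exact Nat.card_congr (Equiv.subtypeEquivRight fun x => List.mem_toFinset.symm)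
  rw [this]; rfl

theorem order_cases (g : O48) : orderOf g ∣ 6 ∨ orderOf g ∣ 8 := by
  have h := List.all_eq_true.1 ords _ (List.contains_iff_mem.1 (mem_O48 g.2))
  simp only [Bool.or_eq_true, beq_iff_eq, ← ofMat_mul] at h
  set x := (g : Matrix.SpecialLinearGroup (Fin 2) Q) with hx
  rcases h with h | h
  · refine .inl ?_
    rw [← Subgroup.orderOf_coe, ← hx]
    refine orderOf_dvd_of_pow_eq_one (ofMat_injective ?_)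
    rw [Matrix.SpecialLinearGroup.coe_one, ofMat_one, Matrix.SpecialLinearGroup.coe_pow]
    rwa [show x.1 ^ 6 = x.1 * x.1 * x.1 * (x.1 * x.1 * x.1) by simp only [pow_succ, pow_zero, one_mul, mul_assoc]]
  · refine .inr ?_
    rw [← Subgroup.orderOf_coe, ← hx]
    refine orderOf_dvd_of_pow_eq_one (ofMat_injective ?_)
    rw [Matrix.SpecialLinearGroup.coe_one, ofMat_one, Matrix.SpecialLinearGroup.coe_pow]
    rwa [show x.1 ^ 8 = x.1 * x.1 * (x.1 * x.1) * (x.1 * x.1 * (x.1 * x.1)) by simp only [pow_succ, pow_zero, one_mul, mul_assoc]]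

theorem exists_six : ∃ g : O48, orderOf g = 6 := by
  obtain ⟨x, hx, h⟩ := List.any_eq_true.1 has_six
  simp only [Bool.and_eq_true, bne_iff_ne, beq_iff_eq] at h
  obtain ⟨g, hg, rfl⟩ := exists_mem x hx
  simp only [← ofMat_mul, ← Matrix.SpecialLinearGroup.coe_mul] at h
  obtain ⟨⟨h3, h2⟩, h6⟩ := h
  refine ⟨⟨g, hg⟩, ?_⟩
  rw [← Subgroup.orderOf_coe]
  show orderOf g = 6
  have hd : orderOf g ∣ 6 := orderOf_dvd_of_pow_eq_one (ofMat_injective (by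
    rw [Matrix.SpecialLinearGroup.coe_one, ofMat_one, show g ^ 6 = g * g * g * (g * g * g) by simp only [pow_succ, pow_zero, one_mul, mul_assoc]]; exact h6))
  have n3 : g ^ 3 ≠ 1 := fun e => h3 (by
    rw [show g * g * g = g ^ 3 by simp only [pow_succ, pow_zero, one_mul, mul_assoc], e, Matrix.SpecialLinearGroup.coe_one, ofMat_one])
  have n2 : g ^ 2 ≠ 1 := fun e => h2 (by
    rw [show g * g = g ^ 2 by simp only [pow_succ, pow_zero, one_mul, mul_assoc], e, Matrix.SpecialLinearGroup.coe_one, ofMat_one])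
  have := Nat.le_of_dvd (by norm_num) hd
  interval_cases h : orderOf g <;> first
    | omega
    | (refine absurd (orderOf_dvd_iff_pow_eq_one.1 (dvd_trans (dvd_of_eq h) ?_)) n2; norm_num; done)
    | (refine absurd (orderOf_dvd_iff_pow_eq_one.1 (dvd_trans (dvd_of_eq h) ?_)) n3; norm_num; done)

theorem exists_eight : ∃ g : O48, orderOf g = 8 := by
  obtain ⟨x, hx, h⟩ := List.any_eq_true.1 has_eight
  simp only [Bool.and_eq_true, bne_iff_ne, beq_iff_eq] at h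
  obtain ⟨g, hg, rfl⟩ := exists_mem x hx
  simp only [← ofMat_mul, ← Matrix.SpecialLinearGroup.coe_mul] at h
  obtain ⟨h, h'⟩ := h
  refine ⟨⟨g, hg⟩, ?_⟩
  have n4 : g ^ 4 ≠ 1 := fun e => h (by
    rw [show g * g * (g * g) = g ^ 4 by simp only [pow_succ, pow_zero, one_mul, mul_assoc], e, Matrix.SpecialLinearGroup.coe_one, ofMat_one])
  have nd : ¬ orderOf g ∣ 4 := fun e => n4 (orderOf_dvd_iff_pow_eq_one.1 e)
  have h8 : orderOf g ∣ 8 := orderOf_dvd_of_pow_eq_one (ofMat_injective (by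
    rw [Matrix.SpecialLinearGroup.coe_one, ofMat_one, show g ^ 8 = g * g * (g * g) * (g * g * (g * g)) by simp only [pow_succ, pow_zero, one_mul, mul_assoc]]; exact h'))
  rw [← Subgroup.orderOf_coe]
  show orderOf g = 8
  have hle := Nat.le_of_dvd (by norm_num) h8
  interval_cases horder : orderOf g <;> first
    | omega
    | (exfalso; exact nd (by norm_num))

theorem no_eigenvalue_one (g : O48) (hg : g ≠ 1) (v : Fin 2 → Q)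
    (hv : (g : Matrix.SpecialLinearGroup (Fin 2) Q).1.mulVec v = v) : v = 0 := by
  by_contra hv0
  have h := List.all_eq_true.1 no_eig _ (List.contains_iff_mem.1 (mem_O48 g.2))
  simp only [Bool.or_eq_true, beq_iff_eq, bne_iff_ne] at h
  rcases h with h | h
  · exact hg (Subtype.ext (ofMat_injective (by rw [h, Subgroup.coe_one, Matrix.SpecialLinearGroup.coe_one, ofMat_one])))
  set A := (g : Matrix.SpecialLinearGroup (Fin 2) Q).1 with hA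
  have hz : (A - 1).det = 0 := Matrix.exists_mulVec_eq_zero_iff.1 ⟨v, hv0, by
    rw [Matrix.sub_mulVec, Matrix.one_mulVec, hv, sub_self]⟩
  have hd : A.det = 1 := (g : Matrix.SpecialLinearGroup (Fin 2) Q).2
  rw [Matrix.det_fin_two] at hz hd
  simp only [Matrix.sub_apply, Matrix.one_apply_eq, Matrix.one_apply_ne (show (0 : Fin 2) ≠ 1 by decide),
    Matrix.one_apply_ne (show (1 : Fin 2) ≠ 0 by decide), sub_zero] at hz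
  exact h (by show A 0 0 + A 1 1 = 2; linear_combination hd - hz)

theorem isSolvable : Group.IsSolvable O48 :=
  CfsgLib.Char.solvable_of_card_two_primes 2 3 4 1 Nat.prime_two Nat.prime_three (by rw [card_O48]; norm_num)

end CfsgLib.Octahedral
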