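import Mathlib.FieldTheory.Finite.GaloisField
import Mathlib.Algebra.QuadraticAlgebra.Basic
import Mathlib.GroupTheory.SemidirectProduct
import Mathlib.GroupTheory.OrderOfElement
import Cfsg.Agent.Fus.PSL2Dihedral
import Cfsg.Agent.Fus.Dickson

/-!
The element orders of PSL₂(q), and solvable groups with related sets of element orders.
-/

set_option autoImplicit false
set_option linter.style.haveILetI false

namespace CfsgLib.PSLTwoSpec

open scoped Matrix

variable {F : Type*} [Field F] [Fintype F]

local notation "SL2" => Matrix.SpecialLinearGroup (Fin 2) F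

theorem mem_Z {g : SL2} : g ∈ Subgroup.center SL2 ↔ g = 1 ∨ g = -1 :=
  ⟨Fus.PSL2Two.mem_center_cases, fun h => h.elim (fun e => e ▸ one_mem _) (fun e => e ▸ Fus.PSL2Two.neg_one_mem_center)⟩

theorem semisimple_cases (g : SL2) (ht : Dickson.tr g ^ 2 ≠ 4) :
    g ^ (Fintype.card F - 1) = 1 ∨ g ^ (Fintype.card F + 1) = 1 := by
  obtain ⟨p, hpch⟩ := CharP.exists F
  haveI : Fact p.Prime := ⟨CharP.char_is_prime F p⟩
  obtain ⟨n, -, hq⟩ := FiniteField.card F p
  set q := Fintype.card F with hqdef
  set M : Matrix (Fin 2) (Fin 2) F := (g : Matrix (Fin 2) (Fin 2) F) with hM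
  set t := Dickson.tr g with htdef
  have hd := Dickson.det_eq g
  have htr : t = M 0 0 + M 1 1 := rfl
  have hCH : M * M = t • M - 1 := by
    ext i j
    fin_cases i <;> fin_cases j <;> simp [Matrix.mul_apply, Fin.sum_univ_two, htr]
    · linear_combination -hd
    · ring
    · ring
    · linear_combination -hd
  have hq1 : 1 < q := Fintype.one_lt_card
  by_cases hs : ∃ r : F, r * r - t * r + 1 = 0
  · left
    obtain ⟨r, hr⟩ := hs
    set s := t - r with hsdef
    have hrs : r - s ≠ 0 := fun h => ht (by
      rw [hsdef] at h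
      linear_combination (2 * r - t) * h - 4 * hr)
    have hrs1 : r * s = 1 := by rw [hsdef]; linear_combination -hr
    obtain ⟨E, hE1, hE2⟩ : ∃ E : Matrix (Fin 2) (Fin 2) F, M * E = r • E ∧ M = r • E + s • (1 - E) := by
      refine ⟨(r - s)⁻¹ • (M - s • (1 : Matrix (Fin 2) (Fin 2) F)), ?_, ?_⟩
      · rw [mul_smul_comm, smul_comm r]
        congr 1
        rw [mul_sub, hCH, mul_smul_comm, mul_one, smul_sub, smul_smul, hrs1, one_smul,
          show t = r + s by rw [hsdef]; ring, add_smul]
        abel
      · have : ∀ X : Matrix (Fin 2) (Fin 2) F, r • X + s • (1 - X) = (r - s) • X + s • 1 := fun X => by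
          module
        rw [this, smul_smul, mul_inv_cancel₀ hrs, one_smul, sub_add_cancel]
    have hME : ∀ k, M ^ k = r ^ k • E + s ^ k • (1 - E) := by
      intro k
      induction k with
      | zero => simp
      | succ k ih =>
        have h2 : M * (1 - E) = s • (1 - E) := by
          rw [mul_sub, mul_one, hE1, sub_eq_iff_eq_add']
          exact hE2
        rw [pow_succ', ih, mul_add, mul_smul_comm, mul_smul_comm, hE1, h2, smul_smul, smul_smul, pow_succ, pow_succ]
    have hMq : M ^ q = M := by
      rw [hME, hqdef, FiniteField.pow_card, FiniteField.pow_card]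
      simpa using (hME 1).symm
    have : g ^ q = g := Subtype.ext (by rw [Matrix.SpecialLinearGroup.coe_pow]; exact hMq)
    rw [← Nat.sub_add_cancel hq1.le, pow_succ] at this
    exact mul_eq_right.1 this
  · push Not at hs
    set N := M ^ q with hN
    have hNspan : ∀ k : ℕ, ∃ u v : F, M ^ k = u • M + v • (1 : Matrix (Fin 2) (Fin 2) F) := by
      intro k
      induction k with
      | zero => exact ⟨0, 1, by simp⟩
      | succ k ih =>
        obtain ⟨u, v, h⟩ := ih
        refine ⟨u * t + v, -u, ?_⟩
        rw [pow_succ, h, add_mul, smul_mul_assoc, smul_mul_assoc, one_mul, hCH, smul_sub, smul_smul, add_smul, neg_smul]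
        abel
    obtain ⟨u, v, huv⟩ := hNspan q
    haveI : CharP (Matrix (Fin 2) (Fin 2) F) p := inferInstance
    have hNq : N * N - t • N + 1 = 0 := by
      have h : (M * M - t • M + 1) ^ q = 0 := by
        rw [hCH, show t • M - 1 - t • M + 1 = 0 by abel]
        exact zero_pow (by omega)
      rw [hq, add_pow_char_pow_of_commute p (n : ℕ) (Commute.one_right _),
        sub_pow_char_pow_of_commute p (n : ℕ) (((Commute.refl M).mul_left (Commute.refl M)).smul_right t), one_pow,
        (Commute.refl M).mul_pow, smul_pow, ← hq, ← hN, hqdef, FiniteField.pow_card] at h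
      exact h
    by_cases h1 : N = M
    · left
      have : g ^ q = g := Subtype.ext (by rw [Matrix.SpecialLinearGroup.coe_pow]; exact h1)
      rw [← Nat.sub_add_cancel hq1.le, pow_succ] at this
      exact mul_eq_right.1 this
    · right
      have hne : (u - 1, v) ≠ (0, 0) := fun e => h1 (by
        obtain ⟨e1, e2⟩ := Prod.mk.inj e
        rw [hN, huv, sub_eq_zero.1 e1, e2, one_smul, zero_smul, add_zero])
      have hdet : (N - M).det ≠ 0 := by
        have hMN : N - M = (u - 1) • M + v • (1 : Matrix (Fin 2) (Fin 2) F) := by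
          rw [hN, huv, sub_smul, one_smul]; abel
        rw [hMN, Matrix.det_fin_two]
        simp
        intro h0
        by_cases hu : u - 1 = 0
        · rw [hu] at h0
          have : v * v = 0 := by linear_combination h0
          exact hne (Prod.ext hu (mul_self_eq_zero.1 this))
        · refine hs (-v / (u - 1)) ?_
          field_simp
          linear_combination h0 - (u - 1) ^ 2 * hd + v * (u - 1) * htr
      set Mi : Matrix (Fin 2) (Fin 2) F := t • (1 : Matrix (Fin 2) (Fin 2) F) - M with hMi
      have hmul : (N - M) * (N - Mi) = 0 := by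
        have hc : Commute M N := Commute.self_pow M q
        have hadd : M + Mi = t • (1 : Matrix (Fin 2) (Fin 2) F) := by rw [hMi]; abel
        have hMMi : M * Mi = 1 := by
          rw [hMi, mul_sub, hCH, mul_smul_comm, mul_one]; abel
        calc (N - M) * (N - Mi) = N * N - (N * Mi + M * N) + M * Mi := by noncomm_ring
          _ = N * N - N * (M + Mi) + 1 := by rw [hMMi, hc.eq, mul_add, add_comm (N * Mi)]
          _ = 0 := by rw [hadd, mul_smul_comm, mul_one, hNq]
      have hNMi : N = Mi := by
        have hu : IsUnit (N - M) := (Matrix.isUnit_iff_isUnit_det _).2 (isUnit_iff_ne_zero.2 hdet)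
        exact sub_eq_zero.1 ((hu.mul_right_eq_zero).1 hmul)
      refine Subtype.ext ?_
      rw [Matrix.SpecialLinearGroup.coe_pow, Matrix.SpecialLinearGroup.coe_one, pow_succ, ← hM, ← hN, hNMi, hMi,
        sub_mul, smul_mul_assoc, one_mul, hCH]
      abel

/-- A power of a semisimple element is central at exponent `(q ± 1)/k`. -/
theorem central_pow (g : SL2) (ht : Dickson.tr g ^ 2 ≠ 4) :
    g ^ ((Fintype.card F - 1) / Nat.gcd 2 (Fintype.card F - 1)) ∈ Subgroup.center SL2 ∨
      g ^ ((Fintype.card F + 1) / Nat.gcd 2 (Fintype.card F - 1)) ∈ Subgroup.center SL2 := by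
  have h1 : 1 < Fintype.card F := Fintype.one_lt_card
  rcases Nat.mod_two_eq_zero_or_one (Fintype.card F) with he | ho
  · have hk : Nat.gcd 2 (Fintype.card F - 1) = 1 := by
      rw [← Nat.coprime_iff_gcd_eq_one, Nat.prime_two.coprime_iff_not_dvd]; omega
    rw [hk, Nat.div_one, Nat.div_one]
    rcases semisimple_cases g ht with h | h <;> simp [h, one_mem]
  · have hk : Nat.gcd 2 (Fintype.card F - 1) = 2 := Nat.gcd_eq_left (by omega)
    rw [hk]
    rcases semisimple_cases g ht with h | h
    · refine .inl (mem_Z.2 (Fus.PSL2Two.sq_eq_one_cases ho ?_))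
      rw [← pow_add, show (Fintype.card F - 1) / 2 + (Fintype.card F - 1) / 2 = Fintype.card F - 1 by omega, h]
    · refine .inr (mem_Z.2 (Fus.PSL2Two.sq_eq_one_cases ho ?_))
      rw [← pow_add, show (Fintype.card F + 1) / 2 + (Fintype.card F + 1) / 2 = Fintype.card F + 1 by omega, h]

theorem exists_irreducible : ∃ a : F, ∀ r : F, r ^ 2 ≠ a + 1 * r := by
  by_contra h
  push Not at h
  have hs : Function.Surjective fun r : F => r ^ 2 - r := fun a => by
    obtain ⟨r, hr⟩ := h a
    exact ⟨r, by linear_combination hr⟩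
  exact zero_ne_one (Finite.injective_iff_surjective.2 hs (a₁ := (0 : F)) (a₂ := 1) (by simp))

theorem exists_order_succ : ∃ g : SL2, orderOf g = Fintype.card F + 1 := by
  obtain ⟨a, ha⟩ := exists_irreducible (F := F)
  haveI : Fact (∀ r : F, r ^ 2 ≠ a + 1 * r) := ⟨ha⟩
  haveI : Finite (QuadraticAlgebra F a 1) := Finite.of_equiv _ (QuadraticAlgebra.equivProd a (1 : F)).symm
  set q := Fintype.card F with hq
  have hq1 : 1 < q := Fintype.one_lt_card
  have hqsq : (q - 1) * (q + 1) = q ^ 2 - 1 := by
    have := Nat.sq_sub_sq q 1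
    rw [one_pow] at this; rw [this, mul_comm]
  have hK : Nat.card (QuadraticAlgebra F a 1) = q * q := by
    rw [Nat.card_congr (QuadraticAlgebra.equivProd a (1 : F)), Nat.card_prod, Nat.card_eq_fintype_card, hq]
  obtain ⟨z, hz⟩ := IsCyclic.exists_ofOrder_eq_natCard (α := (QuadraticAlgebra F a 1)ˣ)
  rw [Nat.card_units, hK, ← pow_two, ← hqsq] at hz
  set z' := z ^ (q - 1) with hz'
  have hzo : orderOf z' = q + 1 := by
    rw [hz', orderOf_pow' _ (by omega : q - 1 ≠ 0), hz, Nat.gcd_eq_right (dvd_mul_right _ _),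
      Nat.mul_div_cancel_left _ (by omega)]
  set c : QuadraticAlgebra F a 1 := (z' : QuadraticAlgebra F a 1) with hc
  have hnorm : QuadraticAlgebra.norm c = 1 := by
    rw [hc, hz', Units.val_pow_eq_pow_val, map_pow]
    rw [hq]; refine FiniteField.pow_card_sub_one_eq_one _ (fun h0 => z.ne_zero ?_)
    exact QuadraticAlgebra.norm_eq_zero_iff_eq_zero.1 h0
  rw [QuadraticAlgebra.norm_def] at hnorm
  let φ : QuadraticAlgebra F a 1 →* Matrix (Fin 2) (Fin 2) F :=
    { toFun := fun z => !![z.re, a * z.im; z.im, z.re + z.im]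
      map_one' := by
        ext i j
        fin_cases i <;> fin_cases j <;> simp [QuadraticAlgebra.re_one, QuadraticAlgebra.im_one]
      map_mul' := fun r s => by
        ext i j; fin_cases i <;> fin_cases j <;> simp [Matrix.mul_apply, Fin.sum_univ_two] <;> ring }
  have hφ : Function.Injective φ := fun r s h =>
    QuadraticAlgebra.ext (congrArg (fun M : Matrix (Fin 2) (Fin 2) F => M 0 0) h)
      (congrArg (fun M : Matrix (Fin 2) (Fin 2) F => M 1 0) h)
  obtain ⟨A, hA⟩ : ∃ A : SL2, (A : Matrix (Fin 2) (Fin 2) F) = φ c :=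
    ⟨⟨φ c, by simp [φ, Matrix.det_fin_two]; linear_combination hnorm⟩, rfl⟩
  refine ⟨A, ?_⟩
  rw [← orderOf_injective (Matrix.SpecialLinearGroup.toGL (n := Fin 2) (R := F)) (fun r s h =>
    Subtype.ext (congrArg Units.val h)), ← orderOf_units, ← hzo, ← orderOf_units (y := z')]
  exact (congrArg orderOf hA).trans (orderOf_injective φ hφ c)

theorem exists_order_pred : ∃ g : SL2, orderOf g = Fintype.card F - 1 :=
  let ⟨a, _, h, _⟩ := Fus.PSL2Two.exists_split_torus (F := F) _ rfl
  ⟨a, h⟩

local notation "π" => QuotientGroup.mk' (Subgroup.center SL2)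

/-- In the quotient, the order of a torus generator drops by the order of the centre. -/
theorem order_image (g : SL2) (m : ℕ) (hm : orderOf g = m) (h2 : Fintype.card F % 2 = 1 → 2 ∣ m) :
    orderOf (π g) = m / Nat.gcd 2 (Fintype.card F - 1) := by
  have h1 : 1 < Fintype.card F := Fintype.one_lt_card
  rcases Nat.mod_two_eq_zero_or_one (Fintype.card F) with he | ho
  · have hk : Nat.gcd 2 (Fintype.card F - 1) = 1 := by
      rw [← Nat.coprime_iff_gcd_eq_one, Nat.prime_two.coprime_iff_not_dvd]; omega
    haveI : CharP F 2 := by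
      have hc : ringChar F = 2 := (FiniteField.even_card_iff_char_two (F := F)).2 he
      exact hc ▸ ringChar.charP F
    have hneg : (-1 : SL2) = 1 := by
      ext i j
      rw [Matrix.SpecialLinearGroup.coe_neg]
      fin_cases i <;> fin_cases j <;> simp [CharTwo.neg_eq]
    rw [hk, Nat.div_one, ← hm]
    refine Nat.dvd_antisymm (orderOf_map_dvd _ _) (orderOf_dvd_of_pow_eq_one ?_)
    have := (QuotientGroup.eq_one_iff (N := Subgroup.center SL2) (g ^ orderOf (π g))).1
      (by exact (map_pow π g _).trans (pow_orderOf_eq_one _))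
    rcases mem_Z.1 this with h | h
    · exact h
    · exact h.trans hneg
  · have hk : Nat.gcd 2 (Fintype.card F - 1) = 2 := Nat.gcd_eq_left (by omega)
    rw [hk]
    have hd := h2 ho
    refine Nat.dvd_antisymm (orderOf_dvd_of_pow_eq_one ?_) ?_
    · rw [← map_pow]
      refine (QuotientGroup.eq_one_iff _).2 (mem_Z.2 (Fus.PSL2Two.sq_eq_one_cases ho ?_))
      rw [← pow_add, show m / 2 + m / 2 = m by omega, ← hm, pow_orderOf_eq_one]
    · have h' := (QuotientGroup.eq_one_iff (N := Subgroup.center SL2) (g ^ orderOf (π g))).1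
        (by exact (map_pow π g _).trans (pow_orderOf_eq_one _))
      have hsq : g ^ (orderOf (π g) * 2) = 1 := by
        rw [pow_mul]
        rcases mem_Z.1 h' with h | h <;> rw [h] <;> simp [neg_one_sq]
      have := orderOf_dvd_of_pow_eq_one hsq
      rw [hm] at this
      obtain ⟨d, rfl⟩ := hd
      rw [Nat.mul_div_cancel_left _ two_pos]
      exact Nat.dvd_of_mul_dvd_mul_left two_pos (by rwa [mul_comm (orderOf _) 2] at this)

/-- The element orders of PSL₂(q). -/
theorem range_orderOf (p : ℕ) [Fact p.Prime] [CharP F p] :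
    Set.range (orderOf : Matrix.ProjectiveSpecialLinearGroup (Fin 2) F → ℕ) =
      {n | n = p ∨ n ∣ (Fintype.card F - 1) / Nat.gcd 2 (Fintype.card F - 1) ∨
        n ∣ (Fintype.card F + 1) / Nat.gcd 2 (Fintype.card F - 1)} := by
  have hp : p.Prime := Fact.out
  ext n
  constructor
  · rintro ⟨x, rfl⟩
    obtain ⟨g, rfl⟩ := QuotientGroup.mk'_surjective _ x
    by_cases ht : Dickson.tr g ^ 2 = 4
    · have hd : orderOf (π g) ∣ p := by
        refine orderOf_dvd_of_pow_eq_one ((map_pow π g p).symm.trans ((QuotientGroup.eq_one_iff _).2 ?_))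
        rcases mul_eq_zero.1 (show (Dickson.tr g - 2) * (Dickson.tr g + 2) = 0 by linear_combination ht) with h | h
        · rw [Dickson.pow_eq_one_of_tr p (sub_eq_zero.1 h)]; exact one_mem _
        · have h' : Dickson.tr (Dickson.m1 F * g) = 2 := by
            rw [Dickson.tr_m1_mul]; linear_combination -h
          have := Dickson.pow_eq_one_of_tr p h'
          rw [(show Commute (Dickson.m1 F) g from Dickson.m1_mul g).mul_pow] at this
          rw [eq_inv_of_mul_eq_one_right this]
          refine inv_mem (pow_mem (Subgroup.mem_center_iff.2 fun y => (Dickson.m1_mul y).symm) _)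
      rcases (Nat.dvd_prime hp).1 hd with h | h
      · exact .inr (.inl (by rw [h]; exact one_dvd _))
      · exact .inl h
    · rcases central_pow g ht with h | h
      · exact .inr (.inl (orderOf_dvd_of_pow_eq_one ((map_pow π g _).symm.trans ((QuotientGroup.eq_one_iff _).2 h))))
      · exact .inr (.inr (orderOf_dvd_of_pow_eq_one ((map_pow π g _).symm.trans ((QuotientGroup.eq_one_iff _).2 h))))
  · intro h
    have h1 : 1 < Fintype.card F := Fintype.one_lt_card
    have key : ∀ {m : ℕ}, 0 < m → (∃ x : Matrix.ProjectiveSpecialLinearGroup (Fin 2) F, orderOf x = m) →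
        n ∣ m → n ∈ Set.range (orderOf : Matrix.ProjectiveSpecialLinearGroup (Fin 2) F → ℕ) := by
      rintro m hm ⟨x, rfl⟩ hn
      exact ⟨x ^ (orderOf x / n), orderOf_pow_orderOf_div hm.ne' hn⟩
    rcases h with rfl | h | h
    · refine ⟨π (Dickson.up (1 : F)), orderOf_eq_prime ((map_pow π _ n).symm.trans ((QuotientGroup.eq_one_iff _).2 ?_)) ?_⟩
      · rw [Dickson.pow_eq_one_of_tr n (by simp [Dickson.tr, Dickson.up, one_add_one_eq_two])]; exact one_mem _
      · intro e
        rcases mem_Z.1 ((QuotientGroup.eq_one_iff _).1 e) with e | e <;>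
          simpa [Dickson.up, Matrix.SpecialLinearGroup.coe_neg] using
            congrArg (fun z : SL2 => (z : Matrix (Fin 2) (Fin 2) F) 0 1) e
    · obtain ⟨g, hg⟩ := exists_order_pred (F := F)
      refine key ?_ ⟨π g, order_image g _ hg (fun ho => by omega)⟩ h
      exact Nat.div_pos (Nat.gcd_le_right 2 (by omega)) (Nat.gcd_pos_of_pos_left _ two_pos)
    · obtain ⟨g, hg⟩ := exists_order_succ (F := F)
      refine key ?_ ⟨π g, order_image g _ hg (fun ho => by omega)⟩ h
      exact Nat.div_pos ((Nat.gcd_le_left _ two_pos).trans (by omega)) (Nat.gcd_pos_of_pos_left _ two_pos)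

/-- A group with element orders `p` and the divisors of `c`. -/
theorem exists_frobenius (p d c : ℕ) [Fact p.Prime] (hd : d ≠ 0) (hc : c ∣ p ^ d - 1) :
    ∃ (G : Type) (_ : Group G) (_ : Finite G), Group.IsSolvable G ∧
      Set.range (orderOf : G → ℕ) = {n | n = p ∨ n ∣ c} := by
  classical
  have hp : p.Prime := Fact.out
  let K := GaloisField p d
  haveI : Finite K := Module.finite_of_finite (ZMod p)
  have hK : Nat.card Kˣ = p ^ d - 1 := by rw [Nat.card_units, GaloisField.card p d hd]
  obtain ⟨u, hu⟩ := IsCyclic.exists_ofOrder_eq_natCard (α := Kˣ)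
  rw [hK] at hu
  have hu0 : p ^ d - 1 ≠ 0 := by
    have := Nat.one_lt_pow hd hp.one_lt
    omega
  let ζ : Kˣ := u ^ (orderOf u / c)
  have hζ : orderOf ζ = c := orderOf_pow_orderOf_div (by rw [hu]; exact hu0) (by rw [hu]; exact hc)
  let C : Subgroup Kˣ := Subgroup.zpowers ζ
  let φ : C →* MulAut (Multiplicative K) :=
    { toFun := fun s => AddEquiv.toMultiplicative (AddEquiv.mk' (Equiv.mulLeft₀ ((s : Kˣ) : K) (Units.ne_zero _))
        (fun x y => mul_add _ x y))
      map_one' := by ext x; exact one_mul (Multiplicative.toAdd x)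
      map_mul' := fun s t => by ext x; exact mul_assoc ((s : Kˣ) : K) ((t : Kˣ) : K) (Multiplicative.toAdd x) }
  haveI : Finite (Multiplicative K ⋊[φ] C) := Finite.of_equiv _ SemidirectProduct.equivProd.symm
  refine ⟨Multiplicative K ⋊[φ] C, inferInstance, inferInstance, ?_, ?_⟩
  · exact Group.isSolvable_of_ker_le_range (SemidirectProduct.inl (φ := φ)) SemidirectProduct.rightHom
      (by rw [SemidirectProduct.range_inl_eq_ker_rightHom])
  have hexp : ∀ v : Multiplicative K, v ^ p = 1 := fun v => Multiplicative.toAdd.injective (by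
    rw [toAdd_pow, nsmul_eq_mul, CharP.cast_eq_zero, zero_mul]; rfl)
  have happly : ∀ (s : C) (x : K), φ s (Multiplicative.ofAdd x) = Multiplicative.ofAdd (((s : Kˣ) : K) * x) :=
    fun s x => rfl
  have hout : ∀ g : Multiplicative K ⋊[φ] C, g.right ≠ 1 → orderOf g = orderOf g.right := by
    intro g hg
    refine Nat.dvd_antisymm (orderOf_dvd_of_pow_eq_one ?_) (orderOf_map_dvd SemidirectProduct.rightHom g)
    set s : K := ((g.right : Kˣ) : K) with hs
    have hs1 : s ≠ 1 := fun e => hg (Subtype.ext (Units.ext e))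
    have key : ∀ k : ℕ, (g ^ k).right = g.right ^ k ∧
        Multiplicative.toAdd (g ^ k).left = (∑ i ∈ Finset.range k, s ^ i) * Multiplicative.toAdd g.left := by
      intro k
      induction k with
      | zero => simp
      | succ k ih =>
        refine ⟨by rw [pow_succ', SemidirectProduct.mul_right, ih.1, pow_succ'], ?_⟩
        rw [pow_succ', SemidirectProduct.mul_left, toAdd_mul]
        rw [← ofAdd_toAdd (g ^ k).left, happly, toAdd_ofAdd, ih.2, Finset.sum_range_succ', pow_zero, add_mul,
          one_mul, add_comm, Finset.sum_mul, Finset.sum_mul, Finset.mul_sum]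
        congr 1
        exact Finset.sum_congr rfl fun i _ => by rw [pow_succ']; ring
    obtain ⟨h1, h2⟩ := key (orderOf g.right)
    have hsb : s ^ orderOf g.right = 1 := by
      rw [hs, ← Units.val_pow_eq_pow_val, ← Subgroup.coe_pow, pow_orderOf_eq_one]; rfl
    refine SemidirectProduct.ext (Multiplicative.toAdd.injective ?_) (by rw [h1, pow_orderOf_eq_one]; rfl)
    rw [h2, geom_sum_eq hs1, hsb, sub_self, zero_div, zero_mul]
    rfl
  ext n
  constructor
  · rintro ⟨g, rfl⟩
    by_cases hg : g.right = 1
    · have : g = SemidirectProduct.inl g.left := SemidirectProduct.ext rfl hg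
      have hdvd : orderOf g ∣ p := orderOf_dvd_of_pow_eq_one (by rw [this, ← map_pow, hexp, map_one])
      rcases (Nat.dvd_prime hp).1 hdvd with e | e
      · exact .inr (e ▸ one_dvd _)
      · exact .inl e
    · refine .inr ?_
      rw [hout g hg]
      exact (orderOf_dvd_natCard g.right).trans (by rw [Nat.card_zpowers, hζ])
  · rintro (rfl | h)
    · refine ⟨SemidirectProduct.inl (Multiplicative.ofAdd (1 : K)), orderOf_eq_prime (by rw [← map_pow, hexp, map_one]) fun e => ?_⟩
      exact one_ne_zero (congrArg (fun z : Multiplicative K ⋊[φ] C => Multiplicative.toAdd z.left) e)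
    · refine ⟨SemidirectProduct.inr (⟨ζ, Subgroup.mem_zpowers ζ⟩ ^ (orderOf ζ / n)), ?_⟩
      rw [orderOf_injective _ SemidirectProduct.inr_injective, ← Subgroup.orderOf_coe, Subgroup.coe_pow]
      exact orderOf_pow_orderOf_div (by rw [hζ]; exact fun e => hu0 (Nat.eq_zero_of_zero_dvd (e ▸ hc))) (hζ ▸ h)

end CfsgLib.PSLTwoSpec
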