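import Mathlib.LinearAlgebra.Matrix.SpecialLinearGroup
import Mathlib.LinearAlgebra.Matrix.ToLin
import Mathlib.Data.ZMod.Basic
import Mathlib.Tactic
import Cfsg.Agent.Base.Spectrum.FpfSemidirect

/-!
An embedding of SL(2,5) into SL(2,11) with no nontrivial element having eigenvalue one.
-/

set_option autoImplicit false
set_option maxRecDepth 4000

namespace CfsgLib.SL25

abbrev A5' := ZMod 5 × ZMod 5 × ZMod 5 × ZMod 5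
abbrev A11 := ZMod 11 × ZMod 11 × ZMod 11 × ZMod 11

structure Row where
  src : A5'
  tgt : A11
  par : ℕ
  gen : ℕ

def m {R : Type} [CommRing R] (x y : R × R × R × R) : R × R × R × R :=
  (x.1 * y.1 + x.2.1 * y.2.2.1, x.1 * y.2.1 + x.2.1 * y.2.2.2, x.2.2.1 * y.1 + x.2.2.2 * y.2.2.1,
    x.2.2.1 * y.2.1 + x.2.2.2 * y.2.2.2)

def rows : List Row :=
  [⟨(1, 0, 0, 1), (1, 0, 0, 1), 0, 0⟩,
    ⟨(0, 4, 1, 0), (3, 4, 3, 8), 0, 0⟩,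
    ⟨(1, 1, 0, 1), (0, 1, 10, 3), 0, 1⟩,
    ⟨(4, 0, 0, 4), (10, 0, 0, 10), 1, 0⟩,
    ⟨(0, 4, 1, 1), (7, 4, 3, 5), 1, 1⟩,
    ⟨(1, 4, 1, 0), (3, 8, 6, 9), 2, 0⟩,
    ⟨(1, 2, 0, 1), (10, 3, 8, 8), 2, 1⟩,
    ⟨(0, 1, 4, 0), (8, 7, 8, 3), 3, 0⟩,
    ⟨(4, 4, 0, 4), (0, 10, 1, 8), 3, 1⟩,
    ⟨(4, 0, 1, 4), (0, 5, 2, 8), 4, 0⟩,
    ⟨(0, 4, 1, 2), (7, 8, 6, 7), 4, 1⟩,
    ⟨(1, 0, 1, 1), (3, 5, 2, 0), 5, 1⟩,
    ⟨(2, 4, 1, 0), (6, 9, 4, 8), 6, 0⟩,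
    ⟨(1, 3, 0, 1), (8, 8, 3, 10), 6, 1⟩,
    ⟨(0, 1, 4, 4), (4, 7, 8, 6), 7, 1⟩,
    ⟨(4, 1, 4, 0), (8, 3, 5, 2), 8, 0⟩,
    ⟨(4, 3, 0, 4), (1, 8, 3, 3), 8, 1⟩,
    ⟨(4, 4, 1, 0), (6, 4, 3, 4), 9, 1⟩,
    ⟨(4, 0, 2, 4), (1, 4, 6, 3), 10, 0⟩,
    ⟨(0, 4, 1, 3), (3, 9, 4, 5), 10, 1⟩,
    ⟨(0, 4, 1, 4), (2, 8, 6, 8), 11, 0⟩,
    ⟨(1, 1, 1, 2), (6, 7, 0, 2), 11, 1⟩,
    ⟨(2, 1, 1, 1), (2, 0, 3, 6), 12, 1⟩,
    ⟨(3, 4, 1, 0), (4, 8, 6, 4), 13, 0⟩,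
    ⟨(1, 4, 0, 1), (3, 10, 1, 0), 13, 1⟩,
    ⟨(1, 0, 4, 1), (0, 6, 9, 3), 14, 0⟩,
    ⟨(0, 1, 4, 3), (4, 3, 5, 4), 14, 1⟩,
    ⟨(4, 0, 4, 4), (8, 6, 9, 0), 15, 1⟩,
    ⟨(3, 1, 4, 0), (5, 2, 7, 3), 16, 0⟩,
    ⟨(4, 2, 0, 4), (3, 3, 8, 1), 16, 1⟩,
    ⟨(4, 1, 0, 4), (8, 1, 10, 0), 17, 0⟩,
    ⟨(4, 3, 1, 1), (7, 7, 7, 4), 17, 1⟩,
    ⟨(4, 4, 2, 1), (7, 2, 8, 4), 18, 1⟩,
    ⟨(4, 0, 3, 4), (3, 7, 5, 1), 19, 0⟩,
    ⟨(1, 4, 2, 4), (6, 3, 6, 5), 21, 0⟩,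
    ⟨(1, 2, 1, 3), (4, 5, 9, 6), 21, 1⟩,
    ⟨(1, 3, 1, 4), (6, 8, 5, 5), 22, 0⟩,
    ⟨(2, 3, 1, 2), (0, 2, 5, 10), 22, 1⟩,
    ⟨(3, 2, 1, 1), (3, 6, 7, 7), 23, 1⟩,
    ⟨(1, 1, 4, 0), (5, 7, 8, 7), 25, 1⟩,
    ⟨(1, 0, 3, 1), (10, 7, 5, 8), 26, 0⟩,
    ⟨(0, 1, 4, 2), (8, 2, 7, 6), 26, 1⟩,
    ⟨(0, 1, 4, 1), (9, 3, 5, 3), 27, 0⟩,
    ⟨(4, 4, 4, 3), (5, 4, 0, 9), 27, 1⟩,
    ⟨(3, 4, 4, 4), (9, 0, 8, 5), 28, 1⟩,
    ⟨(2, 1, 4, 0), (7, 3, 5, 7), 29, 0⟩,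
    ⟨(3, 1, 1, 4), (9, 7, 0, 5), 31, 0⟩,
    ⟨(4, 2, 1, 2), (4, 6, 7, 8), 31, 1⟩,
    ⟨(4, 1, 1, 3), (5, 0, 3, 9), 32, 0⟩,
    ⟨(4, 3, 2, 3), (9, 2, 7, 9), 32, 1⟩,
    ⟨(4, 4, 3, 2), (4, 2, 10, 8), 33, 1⟩,
    ⟨(1, 0, 2, 1), (8, 4, 6, 10), 34, 1⟩,
    ⟨(2, 4, 3, 4), (5, 1, 1, 7), 35, 0⟩,
    ⟨(3, 3, 2, 4), (6, 5, 1, 1), 37, 0⟩,
    ⟨(2, 0, 1, 3), (9, 6, 1, 2), 37, 1⟩,
    ⟨(2, 2, 1, 4), (5, 5, 9, 7), 38, 0⟩,
    ⟨(3, 0, 1, 2), (5, 10, 4, 6), 38, 1⟩,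
    ⟨(1, 2, 4, 4), (4, 4, 4, 7), 39, 1⟩,
    ⟨(1, 1, 3, 4), (4, 9, 3, 7), 40, 1⟩,
    ⟨(4, 1, 3, 1), (5, 8, 5, 6), 43, 0⟩,
    ⟨(4, 3, 4, 2), (7, 6, 2, 5), 43, 1⟩,
    ⟨(4, 2, 4, 1), (5, 3, 6, 6), 44, 0⟩,
    ⟨(3, 2, 4, 3), (0, 9, 6, 1), 44, 1⟩,
    ⟨(2, 3, 4, 4), (8, 5, 4, 4), 45, 1⟩,
    ⟨(2, 1, 2, 4), (8, 9, 1, 4), 47, 0⟩,
    ⟨(3, 1, 3, 3), (0, 8, 4, 1), 49, 0⟩,
    ⟨(4, 2, 2, 0), (9, 4, 2, 1), 49, 1⟩,
    ⟨(4, 1, 2, 2), (7, 10, 10, 5), 50, 0⟩,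
    ⟨(4, 3, 3, 0), (9, 10, 3, 1), 50, 1⟩,
    ⟨(1, 1, 2, 3), (7, 9, 1, 3), 51, 1⟩,
    ⟨(2, 1, 3, 2), (10, 8, 4, 0), 52, 1⟩,
    ⟨(3, 1, 2, 1), (6, 10, 10, 4), 53, 1⟩,
    ⟨(0, 3, 3, 4), (1, 7, 9, 9), 54, 0⟩,
    ⟨(0, 2, 2, 4), (1, 1, 8, 9), 56, 0⟩,
    ⟨(3, 3, 1, 3), (1, 2, 5, 0), 56, 1⟩,
    ⟨(2, 4, 4, 1), (2, 4, 0, 6), 57, 0⟩,
    ⟨(1, 3, 4, 3), (7, 5, 4, 3), 57, 1⟩,
    ⟨(1, 4, 4, 2), (6, 0, 8, 2), 58, 0⟩,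
    ⟨(1, 2, 3, 2), (2, 9, 4, 2), 58, 1⟩,
    ⟨(2, 2, 3, 1), (5, 6, 10, 10), 62, 0⟩,
    ⟨(3, 0, 4, 2), (2, 5, 10, 9), 62, 1⟩,
    ⟨(3, 3, 4, 1), (6, 6, 2, 4), 63, 0⟩,
    ⟨(2, 0, 4, 3), (6, 1, 7, 5), 63, 1⟩,
    ⟨(2, 3, 2, 1), (2, 2, 7, 2), 64, 1⟩,
    ⟨(3, 4, 3, 1), (3, 2, 10, 7), 65, 1⟩,
    ⟨(2, 1, 0, 3), (6, 2, 9, 5), 66, 0⟩,
    ⟨(3, 1, 0, 2), (2, 6, 1, 9), 68, 0⟩,
    ⟨(4, 2, 3, 3), (1, 6, 10, 6), 68, 1⟩,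
    ⟨(1, 4, 3, 3), (4, 1, 1, 6), 69, 0⟩,
    ⟨(1, 2, 2, 0), (2, 1, 8, 10), 69, 1⟩,
    ⟨(1, 3, 2, 2), (10, 5, 1, 5), 70, 0⟩,
    ⟨(2, 3, 3, 0), (3, 1, 0, 4), 70, 1⟩,
    ⟨(3, 4, 2, 3), (1, 3, 7, 0), 71, 1⟩,
    ⟨(0, 3, 3, 2), (4, 0, 2, 3), 72, 1⟩,
    ⟨(0, 2, 2, 1), (10, 4, 2, 2), 73, 1⟩,
    ⟨(3, 2, 3, 4), (9, 9, 4, 9), 74, 0⟩,
    ⟨(2, 4, 2, 2), (0, 3, 7, 10), 78, 0⟩,
    ⟨(1, 3, 3, 0), (2, 7, 9, 10), 78, 1⟩,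
    ⟨(0, 3, 3, 1), (10, 10, 3, 2), 82, 0⟩,
    ⟨(2, 2, 4, 2), (10, 9, 6, 0), 82, 1⟩,
    ⟨(2, 0, 2, 3), (9, 8, 9, 2), 83, 1⟩,
    ⟨(2, 3, 0, 3), (9, 1, 6, 2), 85, 1⟩,
    ⟨(3, 4, 0, 2), (5, 9, 2, 6), 86, 1⟩,
    ⟨(2, 4, 0, 3), (9, 5, 10, 2), 89, 0⟩,
    ⟨(3, 3, 0, 2), (1, 9, 1, 10), 91, 0⟩,
    ⟨(2, 0, 3, 3), (10, 6, 7, 1), 91, 1⟩,
    ⟨(3, 2, 2, 0), (8, 10, 0, 7), 92, 1⟩,
    ⟨(3, 0, 2, 2), (1, 5, 4, 10), 93, 0⟩,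
    ⟨(0, 3, 3, 0), (0, 4, 8, 0), 93, 1⟩,
    ⟨(0, 2, 2, 3), (7, 0, 9, 8), 94, 1⟩,
    ⟨(3, 0, 3, 2), (2, 3, 2, 9), 95, 1⟩,
    ⟨(0, 3, 3, 3), (7, 1, 0, 8), 100, 0⟩,
    ⟨(2, 2, 2, 0), (3, 0, 9, 4), 100, 1⟩,
    ⟨(3, 3, 3, 0), (8, 0, 2, 7), 101, 0⟩,
    ⟨(2, 0, 0, 3), (10, 1, 9, 1), 101, 1⟩,
    ⟨(3, 2, 0, 2), (2, 10, 5, 9), 102, 1⟩,
    ⟨(2, 2, 0, 3), (10, 2, 10, 1), 106, 0⟩,
    ⟨(3, 0, 0, 2), (1, 10, 2, 10), 108, 0⟩,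
    ⟨(0, 2, 2, 0), (0, 7, 3, 0), 109, 1⟩,
    ⟨(0, 2, 2, 2), (4, 10, 0, 3), 110, 0⟩]

def img (x : A5') : A11 :=
  match rows.find? (fun r => r.src == x) with
  | some r => r.tgt
  | none => (0, 0, 0, 0)

def gens : List A5' := [(0, 4, 1, 0), (1, 1, 0, 1)]

/-- Membership in the table. -/
def mem (x : A5') : Bool := rows.any (fun r => r.src == x)

theorem mem_of_det : ∀ a b c d : ZMod 5, a * d - b * c = 1 → mem (a, b, c, d) = true := by decide +kernel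

theorem step_one : img (1, 0, 0, 1) = (1, 0, 0, 1) := by decide +kernel

theorem step_mul : rows.all (fun r => gens.all (fun s => img (m r.src s) == m (img r.src) (img s))) = true := by
  decide +kernel

/-- Every row after the first is an earlier row times a generator. -/
theorem step_par : (List.range rows.length).all (fun i => match rows[i]? with
    | none => true
    | some r => (i == 0 && r.src == (1, 0, 0, 1)) || (decide (r.par < i) && match rows[r.par]?, gens[r.gen]? with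
      | some q, some s => r.src == m q.src s
      | _, _ => false)) = true := by
  decide +kernel

theorem step_det : rows.all (fun r => r.tgt.1 * r.tgt.2.2.2 - r.tgt.2.1 * r.tgt.2.2.1 == 1) = true := by decide +kernel

theorem step_fpf : rows.all (fun r => r.src == (1, 0, 0, 1) || r.tgt.1 + r.tgt.2.2.2 != 2) = true := by decide +kernel

theorem m_assoc {R : Type} [CommRing R] (x y z : R × R × R × R) : m (m x y) z = m x (m y z) := by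
  simp only [m]; ext <;> ring

theorem img_of_mem {x : A5'} (h : mem x = true) : ∃ r ∈ rows, r.src = x ∧ img x = r.tgt := by
  simp only [mem, List.any_eq_true, beq_iff_eq] at h
  obtain ⟨r, hr, rfl⟩ := h
  rcases hf : rows.find? (fun q => q.src == r.src) with _ | q
  · have := List.find?_eq_none.1 hf r hr
    simp at this
  · exact ⟨q, List.mem_of_find?_eq_some hf, by simpa using List.find?_some hf, by simp only [img, hf]⟩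

theorem img_mul {x y : A5'} (hdet : ∀ z : A5', mem z = true → z.1 * z.2.2.2 - z.2.1 * z.2.2.1 = 1)
    (hx : mem x = true) (hy : mem y = true) : img (m x y) = m (img x) (img y) := by
  suffices h : ∀ i (r : Row), rows[i]? = some r → ∀ x : A5', mem x = true → img (m x r.src) = m (img x) (img r.src) by
    simp only [mem, List.any_eq_true, beq_iff_eq] at hy
    obtain ⟨r, hr, rfl⟩ := hy
    obtain ⟨i, hi⟩ := List.getElem?_of_mem hr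
    exact h i r hi x hx
  have hclosed : ∀ a b : A5', mem a = true → mem b = true → mem (m a b) = true := by
    intro a b ha hb
    refine mem_of_det _ _ _ _ ?_
    have h1 := hdet a ha
    have h2 := hdet b hb
    linear_combination (b.1 * b.2.2.2 - b.2.1 * b.2.2.1) * h1 + h2
  intro i
  induction i using Nat.strong_induction_on with
  | _ i ih =>
    intro r hr x hx
    have hp := step_par
    rw [List.all_eq_true] at hp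
    have hlt : i < rows.length := (List.getElem?_eq_some_iff.1 hr).1
    have := hp i (List.mem_range.2 hlt)
    rw [hr] at this
    simp only [Bool.or_eq_true, Bool.and_eq_true, beq_iff_eq, decide_eq_true_eq] at this
    rcases this with ⟨-, h⟩ | ⟨hpl, h⟩
    · rw [h, step_one]
      have : m x (1, 0, 0, 1) = x := by simp [m]
      rw [this]; simp [m]
    · rcases hq : rows[r.par]? with _ | q
      · simp [hq] at h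
      rcases hg : gens[r.gen]? with _ | s
      · simp [hq, hg] at h
      simp only [hq, hg, beq_iff_eq] at h
      have hqm : mem q.src = true := by
        simp only [mem, List.any_eq_true, beq_iff_eq]
        exact ⟨q, List.mem_of_getElem? hq, rfl⟩
      have hs := step_mul
      rw [List.all_eq_true] at hs
      have key : ∀ z : A5', mem z = true → img (m z s) = m (img z) (img s) := by
        intro z hz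
        obtain ⟨w, hw, hws, -⟩ := img_of_mem hz
        have := hs w hw
        rw [List.all_eq_true] at this
        have := this s (List.mem_of_getElem? hg)
        rw [beq_iff_eq, hws] at this
        exact this
      rw [h, ← m_assoc, key _ (hclosed x q.src hx hqm), key _ hqm, ih r.par hpl q hq x hx, m_assoc]

/-- The embedding. -/
theorem exists_embedding :
    ∃ f : Matrix.SpecialLinearGroup (Fin 2) (ZMod 5) →* Matrix.SpecialLinearGroup (Fin 2) (ZMod 11),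
      ∀ g, g ≠ 1 → (f g).1 0 0 + (f g).1 1 1 ≠ 2 := by
  let t : Matrix.SpecialLinearGroup (Fin 2) (ZMod 5) → A5' := fun g => (g.1 0 0, g.1 0 1, g.1 1 0, g.1 1 1)
  have ht : ∀ g, mem (t g) = true := fun g => mem_of_det _ _ _ _ (by
    rw [← Matrix.det_fin_two]; exact g.2)
  have hdet5 : ∀ z : A5', mem z = true → z.1 * z.2.2.2 - z.2.1 * z.2.2.1 = 1 := by
    intro z hz
    revert hz; revert z
    decide +kernel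
  have htm : ∀ g h, t (g * h) = m (t g) (t h) := fun g h => by
    simp [t, m, Matrix.mul_apply, Fin.sum_univ_two]
  have hdet : ∀ g, (img (t g)).1 * (img (t g)).2.2.2 - (img (t g)).2.1 * (img (t g)).2.2.1 = 1 := by
    intro g
    obtain ⟨r, hr, -, e⟩ := img_of_mem (ht g)
    have := List.all_eq_true.1 step_det r hr
    rw [beq_iff_eq] at this
    rw [e]; exact this
  let f : Matrix.SpecialLinearGroup (Fin 2) (ZMod 5) →* Matrix.SpecialLinearGroup (Fin 2) (ZMod 11) :=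
    { toFun := fun g => ⟨!![(img (t g)).1, (img (t g)).2.1; (img (t g)).2.2.1, (img (t g)).2.2.2],
        by rw [Matrix.det_fin_two_of]; exact hdet g⟩
      map_one' := by
        have : t 1 = (1, 0, 0, 1) := by simp [t]
        refine Subtype.ext ?_
        simp only [this, step_one, Matrix.SpecialLinearGroup.coe_one, Matrix.one_fin_two]
      map_mul' := fun g h => by
        refine Subtype.ext ?_
        show _ = !![(img (t g)).1, (img (t g)).2.1; (img (t g)).2.2.1, (img (t g)).2.2.2] *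
          !![(img (t h)).1, (img (t h)).2.1; (img (t h)).2.2.1, (img (t h)).2.2.2]
        simp only [htm g h, img_mul hdet5 (ht g) (ht h)]
        simp only [m, Matrix.mul_fin_two] }
  refine ⟨f, fun g hg => ?_⟩
  obtain ⟨r, hr, hrs, e⟩ := img_of_mem (ht g)
  have h := List.all_eq_true.1 step_fpf r hr
  simp only [Bool.or_eq_true, beq_iff_eq, bne_iff_ne] at h
  rcases h with h | h
  · exfalso
    rw [hrs] at h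
    simp only [t, Prod.mk.injEq] at h
    refine hg (Subtype.ext ?_)
    ext i j
    fin_cases i <;> fin_cases j <;> simp [h.1, h.2.1, h.2.2.1, h.2.2.2]
  · show (img (t g)).1 + (img (t g)).2.2.2 ≠ 2
    rw [e]; exact h

end CfsgLib.SL25
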