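import Mathlib.Algebra.QuadraticAlgebra.Basic
import Mathlib.LinearAlgebra.Matrix.Nondegenerate
import Mathlib.GroupTheory.SemidirectProduct
import Mathlib.LinearAlgebra.Matrix.GeneralLinearGroup.Defs
import Cfsg.Agent.Char.Burnside
import Mathlib.Tactic

/-!
A fixed-point-free group `C3 : C8` over GF(49), and data for U3(3).
-/

set_option autoImplicit false
set_option maxRecDepth 4000

namespace CfsgLib.UThreeThree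

abbrev Q := QuadraticAlgebra (ZMod 7) 6 0

instance : Fact (Nat.Prime 7) := ⟨by norm_num⟩

instance : Fact (∀ r : ZMod 7, r ^ 2 ≠ (6 : ZMod 7) + 0 * r) := ⟨by decide⟩

instance : Finite Q := Finite.of_equiv _ (QuadraticAlgebra.equivProd (6 : ZMod 7) 0).symm

abbrev T := Q × Q × Q × Q

def m (x y : T) : T :=
  (x.1 * y.1 + x.2.1 * y.2.2.1, x.1 * y.2.1 + x.2.1 * y.2.2.2, x.2.2.1 * y.1 + x.2.2.2 * y.2.2.1,
    x.2.2.1 * y.2.1 + x.2.2.2 * y.2.2.2)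

def pw (x : T) : ℕ → T
  | 0 => (1, 0, 0, 1)
  | k + 1 => m (pw x k) x

def els : List T :=
  [(⟨1, 0⟩, ⟨0, 0⟩, ⟨0, 0⟩, ⟨1, 0⟩),
    (⟨2, 0⟩, ⟨0, 0⟩, ⟨0, 0⟩, ⟨4, 0⟩),
    (⟨0, 0⟩, ⟨1, 0⟩, ⟨0, 1⟩, ⟨0, 0⟩),
    (⟨4, 0⟩, ⟨0, 0⟩, ⟨0, 0⟩, ⟨2, 0⟩),
    (⟨0, 0⟩, ⟨2, 0⟩, ⟨0, 4⟩, ⟨0, 0⟩),
    (⟨0, 0⟩, ⟨4, 0⟩, ⟨0, 2⟩, ⟨0, 0⟩),
    (⟨0, 1⟩, ⟨0, 0⟩, ⟨0, 0⟩, ⟨0, 1⟩),
    (⟨0, 2⟩, ⟨0, 0⟩, ⟨0, 0⟩, ⟨0, 4⟩),
    (⟨0, 4⟩, ⟨0, 0⟩, ⟨0, 0⟩, ⟨0, 2⟩),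
    (⟨0, 0⟩, ⟨0, 1⟩, ⟨6, 0⟩, ⟨0, 0⟩),
    (⟨0, 0⟩, ⟨0, 2⟩, ⟨3, 0⟩, ⟨0, 0⟩),
    (⟨0, 0⟩, ⟨0, 4⟩, ⟨5, 0⟩, ⟨0, 0⟩),
    (⟨6, 0⟩, ⟨0, 0⟩, ⟨0, 0⟩, ⟨6, 0⟩),
    (⟨5, 0⟩, ⟨0, 0⟩, ⟨0, 0⟩, ⟨3, 0⟩),
    (⟨3, 0⟩, ⟨0, 0⟩, ⟨0, 0⟩, ⟨5, 0⟩),
    (⟨0, 0⟩, ⟨6, 0⟩, ⟨0, 6⟩, ⟨0, 0⟩),
    (⟨0, 0⟩, ⟨5, 0⟩, ⟨0, 3⟩, ⟨0, 0⟩),
    (⟨0, 0⟩, ⟨3, 0⟩, ⟨0, 5⟩, ⟨0, 0⟩),
    (⟨0, 6⟩, ⟨0, 0⟩, ⟨0, 0⟩, ⟨0, 6⟩),
    (⟨0, 5⟩, ⟨0, 0⟩, ⟨0, 0⟩, ⟨0, 3⟩),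
    (⟨0, 3⟩, ⟨0, 0⟩, ⟨0, 0⟩, ⟨0, 5⟩),
    (⟨0, 0⟩, ⟨0, 6⟩, ⟨1, 0⟩, ⟨0, 0⟩),
    (⟨0, 0⟩, ⟨0, 5⟩, ⟨4, 0⟩, ⟨0, 0⟩),
    (⟨0, 0⟩, ⟨0, 3⟩, ⟨2, 0⟩, ⟨0, 0⟩)]

theorem closed : els.all (fun x => els.all (fun y => els.contains (m x y))) = true := by decide +kernel

theorem one_mem_els : els.contains (1, 0, 0, 1) = true := by decide +kernel

theorem det_ne : els.all (fun x => x.1 * x.2.2.2 - x.2.1 * x.2.2.1 != 0) = true := by decide +kernel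

theorem no_eig : els.all (fun x => x == (1, 0, 0, 1) ||
    (x.1 - 1) * (x.2.2.2 - 1) - x.2.1 * x.2.2.1 != 0) = true := by decide +kernel

theorem ords : els.all (fun x => pw x 8 == (1, 0, 0, 1) || pw x 12 == (1, 0, 0, 1)) = true := by decide +kernel

theorem has_eight : els.any (fun x => pw x 8 == (1, 0, 0, 1) && pw x 4 != (1, 0, 0, 1)) = true := by decide +kernel

theorem has_twelve : els.any (fun x => pw x 12 == (1, 0, 0, 1) && pw x 6 != (1, 0, 0, 1) &&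
    pw x 4 != (1, 0, 0, 1)) = true := by decide +kernel

theorem nodup_els : els.Nodup := by decide +kernel

def toMat (x : T) : Matrix (Fin 2) (Fin 2) Q := !![x.1, x.2.1; x.2.2.1, x.2.2.2]

def ofMat (g : Matrix (Fin 2) (Fin 2) Q) : T := (g 0 0, g 0 1, g 1 0, g 1 1)

theorem ofMat_mul (g h : Matrix (Fin 2) (Fin 2) Q) : ofMat (g * h) = m (ofMat g) (ofMat h) := by
  simp [ofMat, m, Matrix.mul_apply, Fin.sum_univ_two]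

theorem toMat_ofMat (g : Matrix (Fin 2) (Fin 2) Q) : toMat (ofMat g) = g := (Matrix.eta_fin_two g).symm

theorem ofMat_one : ofMat (1 : Matrix (Fin 2) (Fin 2) Q) = (1, 0, 0, 1) := by simp [ofMat]

abbrev G2 := Matrix.GeneralLinearGroup (Fin 2) Q

instance : Finite G2 := Finite.of_injective _ (Units.val_injective (α := Matrix (Fin 2) (Fin 2) Q))

theorem ofMat_inj {g h : G2} (e : ofMat g.1 = ofMat h.1) : g = h :=
  Units.ext (by rw [← toMat_ofMat g.1, e, toMat_ofMat])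

theorem ofMat_pow (g : G2) : ∀ k, ofMat ((g ^ k : G2) : Matrix (Fin 2) (Fin 2) Q) = pw (ofMat g.1) k
  | 0 => by rw [pow_zero, Units.val_one, ofMat_one]; rfl
  | k + 1 => by rw [pow_succ, Units.val_mul, ofMat_mul, ofMat_pow g k]; rfl

theorem pow_eq_one (g : G2) (k : ℕ) : g ^ k = 1 ↔ pw (ofMat g.1) k = (1, 0, 0, 1) := by
  rw [← ofMat_pow]
  exact ⟨fun h => by rw [h, Units.val_one, ofMat_one], fun h => ofMat_inj (by rw [h, Units.val_one, ofMat_one])⟩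

def C24 : Subgroup G2 := Subgroup.closure {g | els.contains (ofMat g.1) = true}

theorem mem_C24 {g : G2} (h : g ∈ C24) : els.contains (ofMat g.1) = true := by
  rw [C24, ← Subgroup.mem_toSubmonoid, Subgroup.closure_toSubmonoid_of_finite] at h
  induction h using Submonoid.closure_induction with
  | mem x hx => exact hx
  | one => rw [Units.val_one, ofMat_one]; exact one_mem_els
  | mul x y _ _ hx hy =>
    rw [Units.val_mul, ofMat_mul]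
    have h1 := List.all_eq_true.1 closed _ (List.contains_iff_mem.1 hx)
    exact List.all_eq_true.1 h1 _ (List.contains_iff_mem.1 hy)

theorem exists_mem (x : T) (hx : x ∈ els) : ∃ g ∈ C24, ofMat (g : G2).1 = x := by
  have hd := List.all_eq_true.1 det_ne x hx
  rw [bne_iff_ne] at hd
  have hd' : (toMat x).det ≠ 0 := by rw [toMat, Matrix.det_fin_two_of]; exact hd
  refine ⟨Matrix.GeneralLinearGroup.mkOfDetNeZero (toMat x) hd', Subgroup.subset_closure ?_, ?_⟩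
  · show els.contains (ofMat (toMat x)) = true
    simpa [ofMat, toMat] using hx
  · show ofMat (toMat x) = x
    simp [ofMat, toMat]

theorem card_C24 : Nat.card C24 = 24 := by
  have e : Nat.card C24 = Nat.card {x : T // x ∈ els} := by
    refine Nat.card_congr (Equiv.ofBijective (fun g => ⟨ofMat (g : G2).1,
      List.contains_iff_mem.1 (mem_C24 g.2)⟩) ⟨fun g h e => Subtype.ext (ofMat_inj (congrArg Subtype.val e)),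
      fun x => ?_⟩)
    obtain ⟨g, hg, hx⟩ := exists_mem x.1 x.2
    exact ⟨⟨g, hg⟩, Subtype.ext hx⟩
  rw [e]
  have : Nat.card {x : T // x ∈ els} = els.length := by
    rw [← List.toFinset_card_of_nodup nodup_els, ← Nat.card_eq_finsetCard]
    exact Nat.card_congr (Equiv.subtypeEquivRight fun x => List.mem_toFinset.symm)
  rw [this]; rfl

theorem isSolvable : Group.IsSolvable C24 :=
  CfsgLib.Char.solvable_of_card_two_primes 2 3 3 1 Nat.prime_two Nat.prime_three (by rw [card_C24]; norm_num)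

theorem order_cases (g : C24) : orderOf g ∣ 8 ∨ orderOf g ∣ 12 := by
  have h := List.all_eq_true.1 ords _ (List.contains_iff_mem.1 (mem_C24 g.2))
  simp only [Bool.or_eq_true, beq_iff_eq, ← pow_eq_one] at h
  rw [← Subgroup.orderOf_coe]
  exact h.imp orderOf_dvd_of_pow_eq_one orderOf_dvd_of_pow_eq_one

theorem order_eight {G : Type*} [Monoid G] {g : G} (h8 : g ^ 8 = 1) (h4 : g ^ 4 ≠ 1) : orderOf g = 8 := by
  haveI : Fact (Nat.Prime 2) := ⟨Nat.prime_two⟩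
  have h := orderOf_eq_prime_pow (p := 2) (n := 2) (x := g) h4 h8
  simpa using h

theorem order_twelve {G : Type*} [Monoid G] {g : G} (h12 : g ^ 12 = 1) (h6 : g ^ 6 ≠ 1) (h4 : g ^ 4 ≠ 1) :
    orderOf g = 12 := by
  have hd : orderOf g ∣ 12 := orderOf_dvd_of_pow_eq_one h12
  have n6 : ¬ orderOf g ∣ 6 := fun e => h6 (orderOf_dvd_iff_pow_eq_one.1 e)
  have n4 : ¬ orderOf g ∣ 4 := fun e => h4 (orderOf_dvd_iff_pow_eq_one.1 e)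
  revert hd n6 n4
  generalize orderOf g = n
  intro hd n6 n4
  have := Nat.le_of_dvd (by norm_num) hd
  interval_cases n <;> simp_all

theorem exists_eight : ∃ g : C24, orderOf g = 8 := by
  obtain ⟨x, hx, h⟩ := List.any_eq_true.1 has_eight
  simp only [Bool.and_eq_true, bne_iff_ne, beq_iff_eq] at h
  obtain ⟨g, hg, rfl⟩ := exists_mem x hx
  exact ⟨⟨g, hg⟩, by
    rw [← Subgroup.orderOf_coe]
    exact order_eight ((pow_eq_one _ _).2 h.1) fun e => h.2 ((pow_eq_one _ _).1 e)⟩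

theorem exists_twelve : ∃ g : C24, orderOf g = 12 := by
  obtain ⟨x, hx, h⟩ := List.any_eq_true.1 has_twelve
  simp only [Bool.and_eq_true, bne_iff_ne, beq_iff_eq] at h
  obtain ⟨g, hg, rfl⟩ := exists_mem x hx
  exact ⟨⟨g, hg⟩, by
    rw [← Subgroup.orderOf_coe]
    exact order_twelve ((pow_eq_one _ _).2 h.1.1) (fun e => h.1.2 ((pow_eq_one _ _).1 e))
      fun e => h.2 ((pow_eq_one _ _).1 e)⟩

theorem no_eigenvalue_one (g : C24) (hg : g ≠ 1) (v : Fin 2 → Q) (hv : (g : G2).1.mulVec v = v) : v = 0 := by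
  by_contra hv0
  have h := List.all_eq_true.1 no_eig _ (List.contains_iff_mem.1 (mem_C24 g.2))
  simp only [Bool.or_eq_true, beq_iff_eq, bne_iff_ne] at h
  rcases h with h | h
  · exact hg (Subtype.ext (ofMat_inj (by rw [h, Subgroup.coe_one, Units.val_one, ofMat_one])))
  set A := (g : G2).1 with hA
  have hz : (A - 1).det = 0 := Matrix.exists_mulVec_eq_zero_iff.1 ⟨v, hv0, by
    rw [Matrix.sub_mulVec, Matrix.one_mulVec, hv, sub_self]⟩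
  rw [Matrix.det_fin_two] at hz
  simp only [Matrix.sub_apply, Matrix.one_apply_eq, Matrix.one_apply_ne (show (0 : Fin 2) ≠ 1 by decide),
    Matrix.one_apply_ne (show (1 : Fin 2) ≠ 0 by decide), sub_zero] at hz
  exact h hz

abbrev K9 := QuadraticAlgebra (ZMod 3) 2 0

instance : Fact (Nat.Prime 3) := ⟨Nat.prime_three⟩

instance : Fact (∀ r : ZMod 3, r ^ 2 ≠ (2 : ZMod 3) + 0 * r) := ⟨by decide⟩

instance : Finite K9 := Finite.of_equiv _ (QuadraticAlgebra.equivProd (2 : ZMod 3) 0).symm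

/-- Coefficients of the powers of a 3×3 matrix. -/
def cf {R : Type*} [CommRing R] (t s : R) : ℕ → R × R × R
  | 0 => (0, 0, 1)
  | k + 1 => ((cf t s k).1 * t + (cf t s k).2.1, (cf t s k).2.2 - (cf t s k).1 * s, (cf t s k).1)

theorem cf_cases_pairs : ∀ a b : ZMod 3, cf (⟨a, b⟩ : K9) ((⟨a, b⟩ : K9) * ⟨a, b⟩ * ⟨a, b⟩) 7 = (0, 0, 1) ∨
    cf (⟨a, b⟩ : K9) ((⟨a, b⟩ : K9) * ⟨a, b⟩ * ⟨a, b⟩) 8 = (0, 0, 1) ∨
    cf (⟨a, b⟩ : K9) ((⟨a, b⟩ : K9) * ⟨a, b⟩ * ⟨a, b⟩) 12 = (0, 0, 1) := by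
  decide +kernel

theorem cf_cases : ∀ t : K9, cf t (t ^ 3) 7 = (0, 0, 1) ∨ cf t (t ^ 3) 8 = (0, 0, 1) ∨ cf t (t ^ 3) 12 = (0, 0, 1) := by
  rintro ⟨a, b⟩
  rw [pow_three']
  exact cf_cases_pairs a b

def w7 : Matrix (Fin 3) (Fin 3) K9 := !![(⟨0, 0⟩ : K9), (⟨0, 0⟩ : K9), (⟨0, 1⟩ : K9); (⟨1, 1⟩ : K9), (⟨1, 1⟩ : K9), (⟨0, 0⟩ : K9); (⟨1, 1⟩ : K9), (⟨2, 2⟩ : K9), (⟨0, 0⟩ : K9)]

def w8 : Matrix (Fin 3) (Fin 3) K9 := !![(⟨0, 0⟩ : K9), (⟨0, 0⟩ : K9), (⟨0, 1⟩ : K9); (⟨0, 0⟩ : K9), (⟨0, 1⟩ : K9), (⟨0, 0⟩ : K9); (⟨1, 0⟩ : K9), (⟨0, 0⟩ : K9), (⟨0, 0⟩ : K9)]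

def w12 : Matrix (Fin 3) (Fin 3) K9 := !![(⟨0, 0⟩ : K9), (⟨0, 0⟩ : K9), (⟨0, 1⟩ : K9); (⟨1, 1⟩ : K9), (⟨2, 1⟩ : K9), (⟨0, 0⟩ : K9); (⟨1, 2⟩ : K9), (⟨2, 2⟩ : K9), (⟨0, 0⟩ : K9)]

def dg : Matrix (Fin 3) (Fin 3) K9 := !![(⟨0, 1⟩ : K9), 0, 0; 0, (⟨0, 2⟩ : K9), 0; 0, 0, 1]

def cy : Matrix (Fin 3) (Fin 3) K9 := !![0, 1, 0; 0, 0, 1; 1, 0, 0]

/-- `A` is a special unitary matrix over GF(9). -/
def IsU (A : Matrix (Fin 3) (Fin 3) K9) : Prop :=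
  A.det = 1 ∧ ∀ i j, ∑ k, A k i * (A k j * A k j * A k j) = if i = j then 1 else 0

theorem w7_spec : IsU w7 ∧ w7 ^ 7 = 1 ∧ w7 ≠ 1 := by unfold IsU; decide +kernel

theorem w8_spec : IsU w8 ∧ w8 ^ 8 = 1 ∧ w8 ^ 4 ≠ 1 := by unfold IsU; decide +kernel

theorem w12_spec : IsU w12 ∧ w12 ^ 12 = 1 ∧ w12 ^ 6 ≠ 1 ∧ w12 ^ 4 ≠ 1 := by unfold IsU; decide +kernel

theorem dg_spec : IsU dg := by unfold IsU; decide +kernel

theorem cy_spec : IsU cy := by unfold IsU; decide +kernel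

end CfsgLib.UThreeThree
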